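import Mathlib
import Cfsg.Agent.LieRecognition.FT61.Main
import Cfsg.Agent.PermutationGroups.HalfTransLinear
import Cfsg.Agent.SmallSimple.AbelianSylowTransfer
set_option linter.all false

-- part: Ree/ReduceLinear
section
/-!
# S0343 [R1], linear part

A group of odd order acting faithfully on an elementary abelian group of order `2 ^ d`, transitively on the nonzero
vectors, has stabilisers of order at most `d`.
-/

set_option autoImplicit false

namespace Cfsg.Agent.Ree.ReduceLinear

open Cfsg.Agent.PermutationGroups.HalfTransField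
open Cfsg.Agent.PermutationGroups.HalfTransCount
open Cfsg.Agent.PermutationGroups.HalfTransLinear

theorem stab_card_le {V : Type*} [AddCommGroup V] [Finite V] [Nontrivial V] {H : Type*} [Group H] [Finite H]
    [DistribMulAction H V] [FaithfulSMul H V] (hodd : Odd (Nat.card H)) (h2 : ∀ v : V, 2 • v = 0)
    (hT : ∀ v w : V, v ≠ 0 → w ≠ 0 → ∃ h : H, h • v = w) (d : ℕ) (hV : Nat.card V = 2 ^ d)
    (v0 : V) (hv0 : v0 ≠ 0) : Nat.card (MulAction.stabilizer H v0) ≤ d := by
  classical
  have hsol : Group.IsSolvable H :=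
    Cfsg.Agent.LieRecognition.FT61.Main.isSolvable hodd Nat.prime_two h2 hT
  have hp : Fact (Nat.Prime 2) := ⟨Nat.prime_two⟩
  obtain ⟨E, hEc, hEn, hEs, hEd⟩ := exists_field (V := V) (H := H) 2 h2 hsol hodd
    (fun v w hv hw => (hT v w hv hw).imp fun h hh => Or.inl hh)
  have hfinE : Finite (AddMonoid.End V) := finite_end
  have hEfin : Finite E := inferInstance
  have hEnt : Nontrivial E := ⟨⟨0, 1, fun h => by
    have h1 : (0 : AddMonoid.End V) = 1 := congrArg Subtype.val h
    apply hv0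
    have h2 : (0 : AddMonoid.End V) v0 = (1 : AddMonoid.End V) v0 := by rw [h1]
    exact h2.symm⟩⟩
  let : CommRing E := { (inferInstance : Ring E) with
    mul_comm := fun x y => Subtype.ext (hEc x.1 x.2 y.1 y.2) }
  have hEdom : IsDomain E := by
    have : NoZeroDivisors E := ⟨by
      intro x y hxy
      by_contra hcon
      push Not at hcon
      obtain ⟨hx, hy⟩ := hcon
      have hyv : y.1 v0 ≠ 0 := fun h => hy (Subtype.ext (hEd y.1 y.2 v0 hv0 h))
      apply hx
      apply Subtype.ext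
      apply hEd x.1 x.2 _ hyv
      have h1 : x.1 * y.1 = 0 := congrArg Subtype.val hxy
      have h2 : (x.1 * y.1) v0 = (0 : AddMonoid.End V) v0 := by rw [h1]
      exact h2⟩
    exact NoZeroDivisors.to_isDomain E
  have hEfield : IsField E := Finite.isField_of_domain E
  let : Field E := hEfield.toField
  have hEp : CharP E 2 := by
    rw [CharP.charP_iff_prime_eq_zero hp.out]
    apply Subtype.ext
    apply hEd _ (((2 : ℕ) : E)).2 v0 hv0
    have : (((2 : ℕ) : E) : AddMonoid.End V) = ((2 : ℕ) : AddMonoid.End V) := by push_cast; rfl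
    rw [this]
    have h2' : ((2 : ℕ) : AddMonoid.End V) v0 = 2 • v0 := rfl
    rw [h2', h2]
  have hcard : Nat.card E = 2 ^ d := by
    rw [← hV]
    refine Nat.card_eq_of_bijective (fun x : E => (x : AddMonoid.End V) v0) ⟨?_, ?_⟩
    · intro x y hxy
      have h3 : (x.1 - y.1) v0 = 0 := by
        have : (x.1 - y.1) v0 = x.1 v0 - y.1 v0 := rfl
        rw [this, sub_eq_zero]; exact hxy
      have h4 := hEd (x.1 - y.1) (E.sub_mem x.2 y.2) v0 hv0 h3
      exact Subtype.ext (sub_eq_zero.1 h4)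
    · intro w
      obtain ⟨x, hx, hxw⟩ := hEs v0 hv0 w
      exact ⟨⟨x, hx⟩, hxw⟩
  obtain ⟨d', hd', hle⟩ := card_ringAut_le 2 E
  have hdd : d' = d := Nat.pow_right_injective (le_refl 2) (by
    change 2 ^ d' = 2 ^ d
    rw [← hd', hcard])
  rw [hdd] at hle
  refine le_trans ?_ hle
  let f : MulAction.stabilizer H v0 → RingAut E := fun h => conjAut E hEn h.1
  have hf : Function.Injective f := by
    intro g h hgh
    have h1 : conjAut E hEn (g.1 * h.1⁻¹) = 1 := by
      rw [map_mul, map_inv]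
      have : conjAut E hEn g.1 = conjAut E hEn h.1 := hgh
      rw [this, mul_inv_cancel]
    set k : H := g.1 * h.1⁻¹ with hk
    have hkv : k • v0 = v0 := by
      have hg := g.2
      have hh := h.2
      rw [MulAction.mem_stabilizer_iff] at hg hh
      have h9 : h.1⁻¹ • v0 = v0 := by rw [inv_smul_eq_iff]; exact hh.symm
      rw [hk, mul_smul, h9]
      exact hg
    have h3 : k = 1 := by
      apply FaithfulSMul.eq_of_smul_eq_smul (α := V)
      intro v
      rw [one_smul]
      obtain ⟨x, hx, hxv⟩ := hEs v0 hv0 v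
      have h4 : conjAut E hEn k ⟨x, hx⟩ = ⟨x, hx⟩ := by rw [h1]; rfl
      have h5 := congrArg Subtype.val h4
      rw [conjAut_apply] at h5
      have h6 : ((tau k * x * tau k⁻¹ : AddMonoid.End V)) v0 = x v0 := by
        exact congrArg (fun e : AddMonoid.End V => e v0) h5
      have h7 : ((tau k * x * tau k⁻¹ : AddMonoid.End V)) v0 = k • (x (k⁻¹ • v0)) := rfl
      have h8 : k⁻¹ • v0 = v0 := by rw [inv_smul_eq_iff]; exact hkv.symm
      rw [h7, h8, hxv] at h6
      exact h6
    apply Subtype.ext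
    rw [hk, mul_inv_eq_one] at h3
    exact h3
  have : Finite (RingAut E) := by
    have : Finite (E ≃ E) := inferInstance
    exact Finite.of_injective (fun f : RingAut E => f.toEquiv) (fun f g h => RingEquiv.ext (fun x => by
      have := congrArg (fun e : E ≃ E => e x) h
      exact this))
  exact Nat.card_le_card_of_injective f hf

end Cfsg.Agent.Ree.ReduceLinear
end

-- part: Ree/ReduceFusion
section
/-!
# S0343 [R1], fusion part

`G` a finite nonabelian simple group with abelian Sylow 2-subgroups, `t` an involution with `C(t) ≅ Z₂ × L`, where `L`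
has trivial centre, one class of involutions, and Sylow 2-subgroups of exponent 2 and order at least 4. Then a Sylow
2-subgroup `S` of `G` is elementary abelian of twice the order, and its normaliser is transitive on `S ∖ 1`.
-/

set_option autoImplicit false

namespace Cfsg.Agent.Ree.ReduceFusion

open Subgroup

theorem z2_sq (a : Multiplicative (ZMod 2)) : a * a = 1 := by revert a; decide

theorem z2_two (a : Multiplicative (ZMod 2)) (ha : a ≠ 1) (b : Multiplicative (ZMod 2)) : b = 1 ∨ b = a := by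
  revert a b; decide

section Pull

variable {G L : Type*} [Group G] [Group L] {t : G}

/-- Inverse image in `C(t) ≅ Z₂ × L` of a subgroup of `L`. -/
def pull (e : Subgroup.centralizer ({t} : Set G) ≃* Multiplicative (ZMod 2) × L) (R : Subgroup L) : Subgroup G :=
  (R.comap ((MonoidHom.snd (Multiplicative (ZMod 2)) L).comp e.toMonoidHom)).map
    (Subgroup.centralizer ({t} : Set G)).subtype

variable (e : Subgroup.centralizer ({t} : Set G) ≃* Multiplicative (ZMod 2) × L)

theorem mem_pull {R : Subgroup L} {x : G} :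
    x ∈ pull e R ↔ ∃ hx : x ∈ Subgroup.centralizer ({t} : Set G), (e ⟨x, hx⟩).2 ∈ R := by
  rw [pull, Subgroup.mem_map]
  constructor
  · rintro ⟨y, hy, rfl⟩
    exact ⟨y.2, hy⟩
  · rintro ⟨hx, h⟩
    exact ⟨⟨x, hx⟩, h, rfl⟩

theorem mem_pull_coe {R : Subgroup L} (x : Subgroup.centralizer ({t} : Set G)) :
    (x : G) ∈ pull e R ↔ (e x).2 ∈ R := by
  rw [mem_pull]
  exact ⟨fun ⟨_, h⟩ => h, fun h => ⟨x.2, h⟩⟩

theorem pull_le (R : Subgroup L) : pull e R ≤ Subgroup.centralizer ({t} : Set G) := by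
  intro x hx
  obtain ⟨h, -⟩ := (mem_pull e).1 hx
  exact h

theorem card_pull (R : Subgroup L) : Nat.card (pull e R) = 2 * Nat.card R := by
  have h1 : Nat.card (pull e R) = Nat.card (Multiplicative (ZMod 2) × R) := by
    refine Nat.card_congr ⟨fun x => ((e ⟨x.1, pull_le e R x.2⟩).1, ⟨(e ⟨x.1, pull_le e R x.2⟩).2, ?_⟩),
      fun y => ⟨(e.symm (y.1, y.2.1) : Subgroup.centralizer ({t} : Set G)), ?_⟩, ?_, ?_⟩
    · exact (mem_pull_coe e ⟨x.1, pull_le e R x.2⟩).1 x.2
    · rw [mem_pull_coe, e.apply_symm_apply]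
      exact y.2.2
    · intro x
      apply Subtype.ext
      change ((e.symm ((e ⟨x.1, pull_le e R x.2⟩).1, (e ⟨x.1, pull_le e R x.2⟩).2) :
        Subgroup.centralizer ({t} : Set G)) : G) = x
      rw [Prod.mk.eta, e.symm_apply_apply]
    · rintro ⟨a, b, hb⟩
      have h := e.apply_symm_apply (a, b)
      simp only [Subtype.coe_eta, h]
  have h2 : Nat.card (Multiplicative (ZMod 2)) = 2 := by
    rw [Nat.card_eq_fintype_card]; rfl
  rw [h1, Nat.card_prod, h2]

variable (het : (e ⟨t, Subgroup.mem_centralizer_singleton_iff.2 rfl⟩).2 = 1)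

include het in
theorem t_mem_pull (R : Subgroup L) : t ∈ pull e R := by
  rw [mem_pull]
  exact ⟨_, by rw [het]; exact R.one_mem⟩

theorem pull_mono {R R' : Subgroup L} (h : R ≤ R') : pull e R ≤ pull e R' := by
  intro x hx
  obtain ⟨h1, h2⟩ := (mem_pull e).1 hx
  exact (mem_pull e).2 ⟨h1, h h2⟩

theorem pull_normalizer (R : Subgroup L) :
    Subgroup.normalizer (pull e R : Set G) ⊓ Subgroup.centralizer ({t} : Set G) =
      pull e (Subgroup.normalizer (R : Set L)) := by
  ext x
  rw [Subgroup.mem_inf, mem_pull]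
  constructor
  · rintro ⟨h1, h2⟩
    refine ⟨h2, ?_⟩
    rw [Subgroup.mem_normalizer_iff] at h1 ⊢
    intro b
    have h3 := h1 (e.symm (1, b) : Subgroup.centralizer ({t} : Set G))
    rw [mem_pull_coe, e.apply_symm_apply] at h3
    have h4 : x * ((e.symm (1, b) : Subgroup.centralizer ({t} : Set G)) : G) * x⁻¹ =
      ((⟨x, h2⟩ * e.symm (1, b) * ⟨x, h2⟩⁻¹ : Subgroup.centralizer ({t} : Set G)) : G) := rfl
    rw [h4, mem_pull_coe, map_mul, map_mul, map_inv, e.apply_symm_apply] at h3
    exact h3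
  · rintro ⟨h2, h1⟩
    refine ⟨?_, h2⟩
    rw [Subgroup.mem_normalizer_iff] at h1 ⊢
    intro y
    by_cases hy : y ∈ Subgroup.centralizer ({t} : Set G)
    · have h3 := h1 (e ⟨y, hy⟩).2
      have h4 : x * y * x⁻¹ =
        ((⟨x, h2⟩ * ⟨y, hy⟩ * ⟨x, h2⟩⁻¹ : Subgroup.centralizer ({t} : Set G)) : G) := rfl
      have h5 : y ∈ pull e R ↔ (e ⟨y, hy⟩).2 ∈ R := mem_pull_coe e ⟨y, hy⟩
      rw [h4, mem_pull_coe, h5, h3, map_mul, map_mul, map_inv]
      rfl
    · refine ⟨fun h => absurd (pull_le e R h) hy, fun h => absurd ?_ hy⟩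
      have h3 := pull_le e R h
      have h4 := mul_mem (mul_mem (inv_mem h2) h3) h2
      have h5 : x⁻¹ * (x * y * x⁻¹) * x = y := by group
      rwa [h5] at h4

include het in
theorem pull_centralizer (R : Subgroup L) :
    Subgroup.centralizer (pull e R : Set G) = pull e (Subgroup.centralizer (R : Set L)) := by
  ext x
  constructor
  · intro h
    have h2 : x ∈ Subgroup.centralizer ({t} : Set G) := by
      rw [Subgroup.mem_centralizer_singleton_iff]
      exact (Subgroup.mem_centralizer_iff.1 h t (t_mem_pull e het R)).symm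
    rw [mem_pull]
    refine ⟨h2, ?_⟩
    rw [Subgroup.mem_centralizer_iff] at h ⊢
    intro b hb
    have h3 := h (e.symm (1, b) : Subgroup.centralizer ({t} : Set G)) (by
      change _ ∈ pull e R
      rw [mem_pull_coe, e.apply_symm_apply]; exact hb)
    have h4 : (e.symm (1, b) * ⟨x, h2⟩ : Subgroup.centralizer ({t} : Set G)) = ⟨x, h2⟩ * e.symm (1, b) :=
      Subtype.ext h3
    have h5 := congrArg e h4
    rw [map_mul, map_mul, e.apply_symm_apply] at h5
    exact congrArg Prod.snd h5
  · intro h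
    obtain ⟨h2, h1⟩ := (mem_pull e).1 h
    rw [Subgroup.mem_centralizer_iff] at h1 ⊢
    intro y hy
    have hyC : y ∈ Subgroup.centralizer ({t} : Set G) := pull_le e R hy
    have h3 := h1 (e ⟨y, hyC⟩).2 ((mem_pull_coe e ⟨y, hyC⟩).1 hy)
    have h4 : (⟨y, hyC⟩ * ⟨x, h2⟩ : Subgroup.centralizer ({t} : Set G)) = ⟨x, h2⟩ * ⟨y, hyC⟩ := by
      apply e.injective
      rw [map_mul, map_mul]
      exact Prod.ext (mul_comm _ _) h3
    exact congrArg Subtype.val h4

theorem et_ne (ht : t ≠ 1) (het : (e ⟨t, Subgroup.mem_centralizer_singleton_iff.2 rfl⟩).2 = 1) :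
    (e ⟨t, Subgroup.mem_centralizer_singleton_iff.2 rfl⟩).1 ≠ 1 := by
  intro h
  apply ht
  have h1 : e ⟨t, Subgroup.mem_centralizer_singleton_iff.2 rfl⟩ = 1 := Prod.ext h het
  rw [MulEquiv.map_eq_one_iff] at h1
  exact congrArg Subtype.val h1

theorem et_snd (hz : ∀ z : L, (∀ x, x * z = z * x) → z = 1) :
    (e ⟨t, Subgroup.mem_centralizer_singleton_iff.2 rfl⟩).2 = 1 := by
  apply hz
  intro x
  have h1 : e.symm (1, x) * ⟨t, Subgroup.mem_centralizer_singleton_iff.2 rfl⟩ =
      ⟨t, Subgroup.mem_centralizer_singleton_iff.2 rfl⟩ * e.symm (1, x) :=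
    Subtype.ext (Subgroup.mem_centralizer_singleton_iff.1 (e.symm (1, x)).2)
  have h2 := congrArg e h1
  rw [map_mul, map_mul, e.apply_symm_apply] at h2
  exact congrArg Prod.snd h2

end Pull

/-- Output of the fusion analysis. -/
theorem fusion {G L : Type*} [Group G] [Finite G] [IsSimpleGroup G] [Group L] [Finite L]
    (hab : ∀ P : Sylow 2 G, ∀ a b : P, a * b = b * a) (t : G) (ht : orderOf t = 2)
    (e : Subgroup.centralizer ({t} : Set G) ≃* Multiplicative (ZMod 2) × L)
    (hz : ∀ z : L, (∀ x, x * z = z * x) → z = 1)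
    (Q : Sylow 2 L) (hQ : ∀ x ∈ Q, x * x = 1) (hQ2 : 4 ∣ Nat.card Q)
    (hconj : ∀ x y : L, orderOf x = 2 → orderOf y = 2 → IsConj x y) :
    ∃ S : Sylow 2 G, (S : Subgroup G) = pull e Q ∧ t ∈ S ∧ (∀ x ∈ S, x * x = 1) ∧ Nat.card S = 2 * Nat.card Q ∧
      (∀ x ∈ S, x ≠ 1 → ∃ n ∈ Subgroup.normalizer ((S : Subgroup G) : Set G), n * t * n⁻¹ = x) ∧
      Nat.card (Subgroup.centralizer ((S : Subgroup G) : Set G)) =
        2 * Nat.card (Subgroup.centralizer ((Q : Subgroup L) : Set L)) ∧
      Nat.card (Subgroup.normalizer ((S : Subgroup G) : Set G) ⊓ Subgroup.centralizer ({t} : Set G) : Subgroup G) =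
        2 * Nat.card (Subgroup.normalizer ((Q : Subgroup L) : Set L)) ∧
      Nat.card (Subgroup.normalizer ((S : Subgroup G) : Set G)) =
        (2 * Nat.card Q - 1) * (2 * Nat.card (Subgroup.normalizer ((Q : Subgroup L) : Set L))) := by
  classical
  have h2 : Fact (Nat.Prime 2) := ⟨Nat.prime_two⟩
  have ht1 : t ≠ 1 := by rintro rfl; rw [orderOf_one] at ht; omega
  have htt : t * t = 1 := by rw [← pow_two, ← ht, pow_orderOf_eq_one]
  have het := et_snd e hz
  have hen := et_ne e ht1 het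
  set z := (e ⟨t, Subgroup.mem_centralizer_singleton_iff.2 rfl⟩).1 with hzdef
  -- the Sylow subgroup
  have hP2 : IsPGroup 2 (pull e (Q : Subgroup L)) := by
    obtain ⟨n, hn⟩ := IsPGroup.iff_card.1 Q.isPGroup'
    apply IsPGroup.of_card (n := n + 1)
    rw [card_pull, hn, pow_succ, mul_comm]
  obtain ⟨S, hS⟩ := hP2.exists_le_sylow
  have htS : t ∈ (S : Subgroup G) := hS (t_mem_pull e het _)
  have hSC : (S : Subgroup G) ≤ Subgroup.centralizer ({t} : Set G) := by
    intro x hx
    rw [Subgroup.mem_centralizer_singleton_iff]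
    exact congrArg Subtype.val (hab S ⟨x, hx⟩ ⟨t, htS⟩)
  have hSeq : (S : Subgroup G) = pull e Q := by
    apply le_antisymm _ hS
    set T : Subgroup L := ((S : Subgroup G).subgroupOf (Subgroup.centralizer ({t} : Set G))).map
      ((MonoidHom.snd (Multiplicative (ZMod 2)) L).comp e.toMonoidHom) with hT
    have hTp : IsPGroup 2 T := by
      apply IsPGroup.map
      exact S.isPGroup'.comap_of_injective _ (Subgroup.subtype_injective _)
    have hQT : (Q : Subgroup L) ≤ T := by
      intro b hb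
      rw [hT, Subgroup.mem_map]
      refine ⟨e.symm (1, b), ?_, ?_⟩
      · rw [Subgroup.mem_subgroupOf]
        apply hS
        rw [mem_pull_coe, e.apply_symm_apply]
        exact hb
      · change (e (e.symm (1, b))).2 = b
        rw [e.apply_symm_apply]
    have hTQ : T = Q := Q.is_maximal' hTp hQT
    intro x hx
    rw [mem_pull]
    refine ⟨hSC hx, ?_⟩
    have : (e ⟨x, hSC hx⟩).2 ∈ T := by
      rw [hT, Subgroup.mem_map]
      exact ⟨⟨x, hSC hx⟩, hx, rfl⟩
    rw [hTQ] at this
    exact this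
  have hSmem : ∀ x : Subgroup.centralizer ({t} : Set G), (x : G) ∈ (S : Subgroup G) ↔ (e x).2 ∈ Q := by
    intro x
    rw [hSeq]
    exact mem_pull_coe e x
  have hexp : ∀ x ∈ (S : Subgroup G), x * x = 1 := by
    intro x hx
    have h1 := (hSmem ⟨x, hSC hx⟩).1 hx
    have h3 : (⟨x, hSC hx⟩ * ⟨x, hSC hx⟩ : Subgroup.centralizer ({t} : Set G)) = 1 := by
      apply e.injective
      rw [map_mul, map_one]
      exact Prod.ext (z2_sq _) (hQ _ h1)
    exact congrArg Subtype.val h3
  -- transitivity of N_L(Q)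
  have htrans : ∀ b ∈ Q, ∀ b' ∈ Q, b ≠ 1 → b' ≠ 1 →
      ∃ n ∈ Subgroup.normalizer ((Q : Subgroup L) : Set L), n * b * n⁻¹ = b' := by
    intro b hb b' hb' hb1 hb1'
    have hQc : IsMulCommutative (Q : Subgroup L) := by
      refine ⟨⟨fun x y => Subtype.ext ?_⟩⟩
      have h1 := hQ x x.2
      have h3 := hQ y y.2
      have h4 := hQ (x * y) (mul_mem x.2 y.2)
      change (x : L) * y = y * x
      have h5 : (x : L)⁻¹ = x := inv_eq_of_mul_eq_one_left h1
      have h6 : (y : L)⁻¹ = y := inv_eq_of_mul_eq_one_left h3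
      have h7 : ((x : L) * y)⁻¹ = x * y := inv_eq_of_mul_eq_one_left h4
      rw [← h7, mul_inv_rev, h5, h6]
    have ho : ∀ b ∈ Q, b ≠ 1 → orderOf b = 2 := fun b hb hb1 =>
      orderOf_eq_prime (by rw [pow_two]; exact hQ b hb) hb1
    obtain ⟨g, hg⟩ := isConj_iff.1 (hconj b b' (ho b hb hb1) (ho b' hb' hb1'))
    obtain ⟨n, hn, h⟩ := Q.conj_eq_normalizer_conj_of_mem b g⁻¹ hb (by
      rw [inv_inv, hg]; exact hb')
    refine ⟨n⁻¹, inv_mem hn, ?_⟩
    rw [inv_inv] at h ⊢
    rw [← h, hg]
  set N := Subgroup.normalizer ((S : Subgroup G) : Set G) with hN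
  -- elements of `S` with the same first component and nontrivial second component are fused
  have hfuse : ∀ x ∈ (S : Subgroup G), ∀ y ∈ (S : Subgroup G), ∀ (hx : x ∈ Subgroup.centralizer ({t} : Set G))
      (hy : y ∈ Subgroup.centralizer ({t} : Set G)), (e ⟨x, hx⟩).1 = (e ⟨y, hy⟩).1 → (e ⟨x, hx⟩).2 ≠ 1 →
      (e ⟨y, hy⟩).2 ≠ 1 → ∃ n ∈ N, n * x * n⁻¹ = y := by
    intro x hxS y hyS hx hy h1 h3 h4
    obtain ⟨n, hn, hnn⟩ := htrans _ ((hSmem ⟨x, hx⟩).1 hxS) _ ((hSmem ⟨y, hy⟩).1 hyS) h3 h4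
    refine ⟨(e.symm (1, n) : Subgroup.centralizer ({t} : Set G)), ?_, ?_⟩
    · have h5 : ((e.symm (1, n) : Subgroup.centralizer ({t} : Set G)) : G) ∈
          pull e (Subgroup.normalizer ((Q : Subgroup L) : Set L)) := by
        rw [mem_pull_coe, e.apply_symm_apply]
        exact hn
      rw [← pull_normalizer] at h5
      rw [hN, hSeq]
      exact h5.1
    · have h5 : e.symm (1, n) * ⟨x, hx⟩ * (e.symm (1, n))⁻¹ = ⟨y, hy⟩ := by
        apply e.injective
        rw [map_mul, map_mul, map_inv, e.apply_symm_apply]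
        refine Prod.ext ?_ hnn
        change 1 * (e ⟨x, hx⟩).1 * 1⁻¹ = _
        rw [one_mul, inv_one, mul_one, h1]
      exact congrArg Subtype.val h5
  -- the orbit of `t`
  let act : MulAction N G := MulAction.compHom G ((MulAut.conj : G →* MulAut G).comp N.subtype)
  have hact : ∀ (n : N) (g : G), n • g = n * g * (n : G)⁻¹ := fun n g => rfl
  have horb : ∀ g : G, g ∈ MulAction.orbit N t ↔ ∃ n ∈ N, n * t * n⁻¹ = g := by
    intro g
    constructor
    · rintro ⟨n, hn⟩
      exact ⟨n, n.2, hn⟩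
    · rintro ⟨n, hn, h⟩
      exact ⟨⟨n, hn⟩, h⟩
  have horbS : ∀ g ∈ MulAction.orbit N t, g ∈ (S : Subgroup G) ∧ g ≠ 1 := by
    intro g hg
    obtain ⟨n, hn, rfl⟩ := (horb g).1 hg
    refine ⟨(Subgroup.mem_normalizer_iff.1 hn t).1 htS, fun h => ht1 ?_⟩
    rw [mul_inv_eq_one] at h
    exact mul_left_cancel (h.trans (mul_one n).symm)
  have hodd : Odd (MulAction.orbit N t).ncard := by
    rw [← MulAction.index_stabilizer]
    have h3 : (S : Subgroup G).subgroupOf N ≤ MulAction.stabilizer N t := by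
      intro n hn
      rw [MulAction.mem_stabilizer_iff, hact]
      have h4 : (n : G) ∈ (S : Subgroup G) := hn
      have h5 := Subgroup.mem_centralizer_singleton_iff.1 (hSC h4)
      rw [h5]; group
    have h4 := Subgroup.index_dvd_of_le h3
    have h5 : ((S : Subgroup G).subgroupOf N).index ∣ (S : Subgroup G).index :=
      Dvd.intro _ (Subgroup.relIndex_mul_index (Subgroup.le_normalizer (H := (S : Subgroup G))))
    rw [← Nat.not_even_iff_odd, even_iff_two_dvd]
    intro h6
    exact S.not_dvd_index (h6.trans (h4.trans h5))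
  have hmoved : ∃ n ∈ N, n * t * n⁻¹ ≠ t := by
    by_contra hcon
    push Not at hcon
    apply ht1
    have hnab : ¬ IsMulCommutative G := by
      intro hG
      have htop : Subgroup.centralizer ({t} : Set G) = ⊤ := by
        rw [eq_top_iff]
        intro x _
        rw [Subgroup.mem_centralizer_singleton_iff]
        exact hG.is_comm.comm x t
      -- Q is nontrivial, so is the pull back of Q, larger than ⟨t⟩
      have hLab : ∀ x y : L, x * y = y * x := by
        intro x y
        have h3 : e.symm (1, x) * e.symm (1, y) = e.symm (1, y) * e.symm (1, x) :=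
          Subtype.ext (hG.is_comm.comm _ _)
        have h4 := congrArg e h3
        rw [map_mul, map_mul, e.apply_symm_apply, e.apply_symm_apply] at h4
        exact congrArg Prod.snd h4
      have hL1 : ∀ x : L, x = 1 := fun x => hz x (fun y => hLab y x)
      have : Nat.card Q = 1 := by
        have : Subsingleton Q := ⟨fun x y => Subtype.ext ((hL1 x).trans (hL1 y).symm)⟩
        exact Nat.card_of_subsingleton 1
      rw [this] at hQ2
      omega
    refine Cfsg.Agent.SmallSimple.AbelianSylowTransfer.eq_one_of_normalizer_le hnab S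
      ⟨⟨fun a b => hab S a b⟩⟩ t htS (fun n hn => ?_)
    have h3 := hcon n hn
    rw [mul_inv_eq_iff_eq_mul] at h3
    exact h3
  -- two possible orbits
  have hpart : ∀ x ∈ (S : Subgroup G), ∀ hx : x ∈ Subgroup.centralizer ({t} : Set G), x ≠ 1 →
      x = t ∨ ((e ⟨x, hx⟩).2 ≠ 1 ∧ (e ⟨x, hx⟩).1 = 1) ∨ ((e ⟨x, hx⟩).2 ≠ 1 ∧ (e ⟨x, hx⟩).1 = z) := by
    intro x hxS hx hx1
    by_cases h3 : (e ⟨x, hx⟩).2 = 1
    · left
      rcases z2_two z hen (e ⟨x, hx⟩).1 with h4 | h4
      · exfalso
        apply hx1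
        have h5 : e ⟨x, hx⟩ = 1 := Prod.ext h4 h3
        rw [MulEquiv.map_eq_one_iff] at h5
        exact congrArg Subtype.val h5
      · have h5 : e ⟨x, hx⟩ = e ⟨t, Subgroup.mem_centralizer_singleton_iff.2 rfl⟩ :=
          Prod.ext (h4.trans hzdef) (h3.trans het.symm)
        exact congrArg Subtype.val (e.injective h5)
    · right
      rcases z2_two z hen (e ⟨x, hx⟩).1 with h4 | h4
      · exact Or.inl ⟨h3, h4⟩
      · exact Or.inr ⟨h3, h4⟩
  have hmul : ∀ x y : G, x ∈ MulAction.orbit N t → (∃ n ∈ N, n * x * n⁻¹ = y) → y ∈ MulAction.orbit N t := by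
    intro x y hx hy
    obtain ⟨m, hm, rfl⟩ := (horb x).1 hx
    obtain ⟨n, hn, rfl⟩ := hy
    refine (horb _).2 ⟨n * m, mul_mem hn hm, ?_⟩
    group
  -- parametrisation of the two halves
  have hQfin : Nat.card Q ≠ 0 := Nat.card_pos.ne'
  let half : Multiplicative (ZMod 2) → Set G := fun a =>
    {x | ∃ hx : x ∈ Subgroup.centralizer ({t} : Set G), (e ⟨x, hx⟩).1 = a ∧ (e ⟨x, hx⟩).2 ∈ Q ∧ (e ⟨x, hx⟩).2 ≠ 1}
  have hhalfcard : ∀ a, (half a).ncard = Nat.card Q - 1 := by
    intro a
    have h3 : half a = (fun b : L => ((e.symm (a, b) : Subgroup.centralizer ({t} : Set G)) : G)) ''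
        (((Q : Subgroup L) : Set L) \ {1}) := by
      ext x
      constructor
      · rintro ⟨hx, h4, h5, h6⟩
        refine ⟨(e ⟨x, hx⟩).2, ⟨h5, h6⟩, ?_⟩
        have : (a, (e ⟨x, hx⟩).2) = e ⟨x, hx⟩ := Prod.ext h4.symm rfl
        change ((e.symm (a, (e ⟨x, hx⟩).2) : Subgroup.centralizer ({t} : Set G)) : G) = x
        rw [this, e.symm_apply_apply]
      · rintro ⟨b, ⟨hb, hb1⟩, rfl⟩
        refine ⟨(e.symm (a, b)).2, ?_⟩
        change (e (e.symm (a, b))).1 = a ∧ (e (e.symm (a, b))).2 ∈ Q ∧ (e (e.symm (a, b))).2 ≠ 1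
        rw [e.apply_symm_apply]
        exact ⟨rfl, hb, hb1⟩
    rw [h3, Set.ncard_image_of_injective]
    · rw [Set.ncard_sdiff (by rw [Set.singleton_subset_iff]; exact (Q : Subgroup L).one_mem), Set.ncard_singleton,
        ← Nat.card_coe_set_eq]
      rfl
    · intro b b' h4
      have h5 := e.symm.injective (Subtype.ext h4)
      exact congrArg Prod.snd h5
  have hhalfmem : ∀ a, ∀ x ∈ half a, x ∈ (S : Subgroup G) := by
    rintro a x ⟨hx, -, h4, -⟩
    exact (hSmem ⟨x, hx⟩).2 h4
  have hhalf : ∀ a, (∃ x ∈ half a, x ∈ MulAction.orbit N t) → half a ⊆ MulAction.orbit N t := by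
    rintro a ⟨x, ⟨hx, h3, h4, h5⟩, hxo⟩ y ⟨hy, h6, h7, h8⟩
    exact hmul x y hxo (hfuse x ((hSmem ⟨x, hx⟩).2 h4) y ((hSmem ⟨y, hy⟩).2 h7) hx hy (h3.trans h6.symm) h5 h8)
  have htorb : t ∈ MulAction.orbit N t := MulAction.mem_orbit_self t
  have hthalf : ∀ a, t ∉ half a := by
    rintro a ⟨hx, -, -, h5⟩
    exact h5 het
  have hcover : ∀ x ∈ (S : Subgroup G), x ≠ 1 → x = t ∨ x ∈ half 1 ∨ x ∈ half z := by
    intro x hx hx1
    rcases hpart x hx (hSC hx) hx1 with h | ⟨h, h'⟩ | ⟨h, h'⟩
    · exact Or.inl h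
    · exact Or.inr (Or.inl ⟨hSC hx, h', (hSmem ⟨x, hSC hx⟩).1 hx, h⟩)
    · exact Or.inr (Or.inr ⟨hSC hx, h', (hSmem ⟨x, hSC hx⟩).1 hx, h⟩)
  have hnotone : ∀ a a', (∃ x ∈ half a, x ∈ MulAction.orbit N t) →
      (∀ x ∈ (S : Subgroup G), x ≠ 1 → x = t ∨ x ∈ half a ∨ x ∈ half a') →
      ∃ x ∈ half a', x ∈ MulAction.orbit N t := by
    intro a a' h3 h4
    by_contra hcon
    push Not at hcon
    have h5 : MulAction.orbit N t = insert t (half a) := by
      ext x
      constructor
      · intro hx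
        obtain ⟨h6, h7⟩ := horbS x hx
        rcases h4 x h6 h7 with h | h | h
        · rw [h]; exact Set.mem_insert _ _
        · exact Set.mem_insert_of_mem _ h
        · exact absurd hx (hcon x h)
      · intro hx
        rcases Set.mem_insert_iff.1 hx with rfl | h
        · exact htorb
        · exact hhalf a h3 h
    have hfin : (half a).Finite := Set.toFinite _
    rw [h5, Set.ncard_insert_of_notMem (hthalf a) hfin, hhalfcard] at hodd
    have h6 : Nat.card Q - 1 + 1 = Nat.card Q := by omega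
    rw [h6] at hodd
    obtain ⟨k, hk⟩ := hQ2
    rw [hk] at hodd
    rw [← Nat.not_even_iff_odd] at hodd
    exact hodd ⟨2 * k, by ring⟩
  have hboth : half 1 ⊆ MulAction.orbit N t ∧ half z ⊆ MulAction.orbit N t := by
    obtain ⟨n, hn, hnt⟩ := hmoved
    have h3 : n * t * n⁻¹ ∈ MulAction.orbit N t := (horb _).2 ⟨n, hn, rfl⟩
    obtain ⟨h4, h5⟩ := horbS _ h3
    rcases hcover _ h4 h5 with h | h | h
    · exact absurd h hnt
    · have h6 := hnotone 1 z ⟨_, h, h3⟩ hcover
      exact ⟨hhalf 1 ⟨_, h, h3⟩, hhalf z h6⟩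
    · have h6 := hnotone z 1 ⟨_, h, h3⟩ (fun x hx hx1 => by
        rcases hcover x hx hx1 with h | h | h
        · exact Or.inl h
        · exact Or.inr (Or.inr h)
        · exact Or.inr (Or.inl h))
      exact ⟨hhalf 1 h6, hhalf z ⟨_, h, h3⟩⟩
  have hall : MulAction.orbit N t = ((S : Subgroup G) : Set G) \ {1} := by
    ext x
    constructor
    · intro hx
      exact horbS x hx
    · rintro ⟨hx, hx1⟩
      rcases hcover x hx hx1 with rfl | h | h
      · exact htorb
      · exact hboth.1 h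
      · exact hboth.2 h
  have hScard : Nat.card S = 2 * Nat.card Q := by
    rw [← card_pull e (Q : Subgroup L), ← hSeq]
  have hNC : Nat.card (N ⊓ Subgroup.centralizer ({t} : Set G) : Subgroup G) =
      2 * Nat.card (Subgroup.normalizer ((Q : Subgroup L) : Set L)) := by
    rw [hN, hSeq, pull_normalizer, card_pull]
  refine ⟨S, hSeq, htS, hexp, hScard, ?_, ?_, hNC, ?_⟩
  · intro x hx hx1
    rw [← horb, hall]
    exact ⟨hx, hx1⟩
  · rw [hSeq, pull_centralizer e het, card_pull]
  · have h3 := MulAction.index_stabilizer N t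
    have h4 := (MulAction.stabilizer N t).card_mul_index
    rw [h3, hall, Set.ncard_sdiff (by rw [Set.singleton_subset_iff]; exact (S : Subgroup G).one_mem),
      Set.ncard_singleton] at h4
    have h5 : (((S : Subgroup G) : Set G)).ncard = Nat.card S := by
      rw [← Nat.card_coe_set_eq]; rfl
    rw [h5, hScard] at h4
    have h6 : Nat.card (MulAction.stabilizer N t) =
        Nat.card (N ⊓ Subgroup.centralizer ({t} : Set G) : Subgroup G) := by
      refine Nat.card_congr ⟨fun n => ⟨n.1.1, n.1.2, ?_⟩, fun n => ⟨⟨n.1, n.2.1⟩, ?_⟩, fun n => rfl, fun n => rfl⟩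
      · have h7 := n.2
        rw [MulAction.mem_stabilizer_iff, hact, mul_inv_eq_iff_eq_mul] at h7
        exact Subgroup.mem_centralizer_singleton_iff.2 h7
      · have h7 := Subgroup.mem_centralizer_singleton_iff.1 n.2.2
        rw [MulAction.mem_stabilizer_iff, hact, mul_inv_eq_iff_eq_mul]
        exact h7
    rw [← h4, h6, hNC]
    ring

end Cfsg.Agent.Ree.ReduceFusion
end

-- part: Ree/ReduceCount
section
/-!
# S0343 [R1], the order of a Sylow 2-subgroup
-/

set_option autoImplicit false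

namespace Cfsg.Agent.Ree.ReduceCount

open Subgroup

/-- Multiplicative version of `ReduceLinear.stab_card_le` for groups of automorphisms. -/
theorem mulAut_stab {A : Type*} [Group A] [Finite A] [Nontrivial A] (hc : ∀ a b : A, a * b = b * a)
    (H : Subgroup (MulAut A)) (hodd : Odd (Nat.card H)) (h2 : ∀ a : A, a * a = 1)
    (hT : ∀ a b : A, a ≠ 1 → b ≠ 1 → ∃ h ∈ H, h a = b) (d : ℕ) (hA : Nat.card A = 2 ^ d)
    (a0 : A) (h0 : a0 ≠ 1) : Nat.card {h : H // (h : MulAut A) a0 = a0} ≤ d := by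
  classical
  let : CommGroup A := { (inferInstance : Group A) with mul_comm := hc }
  let act : DistribMulAction H (Additive A) :=
    { smul := fun h v => Additive.ofMul ((h : MulAut A) v.toMul)
      one_smul := fun v => rfl
      mul_smul := fun g h v => rfl
      smul_zero := fun h => by
        change Additive.ofMul ((h : MulAut A) 1) = 0
        rw [map_one]; rfl
      smul_add := fun h v w => by
        change Additive.ofMul ((h : MulAut A) (v.toMul * w.toMul)) = _
        rw [map_mul]; rfl }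
  have hact : ∀ (h : H) (v : Additive A), h • v = Additive.ofMul ((h : MulAut A) v.toMul) := fun _ _ => rfl
  have hf : FaithfulSMul H (Additive A) := by
    constructor
    intro g h hgh
    apply Subtype.ext
    apply MulEquiv.ext
    intro a
    have := hgh (Additive.ofMul a)
    exact Additive.ofMul.injective this
  have h1 := ReduceLinear.stab_card_le (V := Additive A) (H := H) hodd
    (fun v => by
      rw [two_nsmul]
      exact h2 v.toMul)
    (fun v w hv hw => by
      obtain ⟨h, hh, hh2⟩ := hT v.toMul w.toMul (fun h => hv (Additive.toMul.injective h))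
        (fun h => hw (Additive.toMul.injective h))
      refine ⟨⟨h, hh⟩, ?_⟩
      rw [hact]
      change Additive.ofMul (h v.toMul) = w
      rw [hh2]; rfl)
    d (by rw [← hA]; rfl) (Additive.ofMul a0) (fun h => h0 (Additive.ofMul.injective h))
  refine le_trans (le_of_eq ?_) h1
  refine Nat.card_congr ⟨fun h => ⟨h.1, ?_⟩, fun h => ⟨h.1, ?_⟩, fun _ => rfl, fun _ => rfl⟩
  · rw [MulAction.mem_stabilizer_iff, hact]
    change Additive.ofMul ((h.1 : MulAut A) a0) = _
    rw [h.2]
  · have := h.2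
    rw [MulAction.mem_stabilizer_iff, hact] at this
    exact Additive.ofMul.injective this

theorem pow_le (n : ℕ) (h : 2 ^ n ≤ n + 2) : n ≤ 2 := by
  by_contra hcon
  have h3 : 3 ≤ n := by omega
  have : ∀ k, 3 ≤ k → k + 2 < 2 ^ k := by
    intro k hk
    induction k, hk using Nat.le_induction with
    | base => norm_num
    | succ m hm ih => rw [pow_succ]; omega
  exact absurd (this n h3) (by omega)

/-- In the situation of `ReduceFusion.fusion`, the Sylow 2-subgroups of `L` have order 4. -/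
theorem card_eq_four {G L : Type*} [Group G] [Finite G] [IsSimpleGroup G] [Group L] [Finite L]
    (hab : ∀ P : Sylow 2 G, ∀ a b : P, a * b = b * a) (t : G) (ht : orderOf t = 2)
    (e : Subgroup.centralizer ({t} : Set G) ≃* Multiplicative (ZMod 2) × L)
    (hz : ∀ z : L, (∀ x, x * z = z * x) → z = 1)
    (Q : Sylow 2 L) (hQ : ∀ x ∈ Q, x * x = 1) (hQ2 : 4 ∣ Nat.card Q)
    (hconj : ∀ x y : L, orderOf x = 2 → orderOf y = 2 → IsConj x y) : Nat.card Q = 4 := by
  classical
  have h2 : Fact (Nat.Prime 2) := ⟨Nat.prime_two⟩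
  obtain ⟨S, hSeq, htS, hexp, hScard, htr, hCS, hNC, hN⟩ := ReduceFusion.fusion hab t ht e hz Q hQ hQ2 hconj
  have ht1 : t ≠ 1 := by rintro rfl; rw [orderOf_one] at ht; omega
  obtain ⟨n, hn⟩ := IsPGroup.iff_card.1 Q.isPGroup'
  have hn' : Nat.card Q = 2 ^ n := hn
  set N := Subgroup.normalizer ((S : Subgroup G) : Set G) with hNdef
  let φ : N →* MulAut (S : Subgroup G) := Subgroup.normalizerMonoidHom (S : Subgroup G)
  have hφ : ∀ (n : N) (x : (S : Subgroup G)), ((φ n x : (S : Subgroup G)) : G) = n * x * (n : G)⁻¹ := fun _ _ => rfl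
  have hker : ∀ n : N, φ n = 1 ↔ (n : G) ∈ Subgroup.centralizer ((S : Subgroup G) : Set G) := by
    intro n
    rw [Subgroup.mem_centralizer_iff]
    constructor
    · intro h x hx
      have h3 := hφ n ⟨x, hx⟩
      rw [h] at h3
      change x = n * x * (n : G)⁻¹ at h3
      rw [eq_mul_inv_iff_mul_eq] at h3
      exact h3
    · intro h
      apply MulEquiv.ext
      intro x
      apply Subtype.ext
      rw [hφ]
      have h3 := h x x.2
      rw [← h3]
      change (x : G) * n * (n : G)⁻¹ = x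
      rw [mul_inv_cancel_right]
  have hSc : ∀ a b : (S : Subgroup G), a * b = b * a := hab S
  have hS1 : Nat.card (S : Subgroup G) = 2 ^ (n + 1) := by
    have : Nat.card (S : Subgroup G) = 2 * Nat.card Q := hScard
    rw [this, hn', pow_succ, mul_comm]
  have hnt : Nontrivial (S : Subgroup G) := by
    refine ⟨⟨⟨t, htS⟩, 1, fun h => ht1 (congrArg Subtype.val h)⟩⟩
  -- the group of automorphisms has odd order
  have hodd : Odd (Nat.card φ.range) := by
    have h3 : Nat.card φ.range = φ.ker.index := (Subgroup.index_ker φ).symm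
    rw [h3]
    have h4 : (S : Subgroup G).subgroupOf N ≤ φ.ker := by
      intro x hx
      have hx' : (x : G) ∈ (S : Subgroup G) := hx
      rw [MonoidHom.mem_ker, hker, Subgroup.mem_centralizer_iff]
      intro y hy
      exact congrArg Subtype.val (hab S ⟨y, hy⟩ ⟨x, hx'⟩)
    have h5 := Subgroup.index_dvd_of_le h4
    have h6 : ((S : Subgroup G).subgroupOf N).index ∣ (S : Subgroup G).index :=
      Dvd.intro _ (Subgroup.relIndex_mul_index (Subgroup.le_normalizer (H := (S : Subgroup G))))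
    rw [← Nat.not_even_iff_odd, even_iff_two_dvd]
    intro h7
    exact S.not_dvd_index (h7.trans (h5.trans h6))
  have hle := mulAut_stab hSc φ.range hodd (fun a => Subtype.ext (hexp a a.2))
    (fun a b ha hb => by
      obtain ⟨m, hm, hm2⟩ := htr a a.2 (fun h => ha (Subtype.ext h))
      obtain ⟨k, hk, hk2⟩ := htr b b.2 (fun h => hb (Subtype.ext h))
      refine ⟨φ (⟨k, hk⟩ * ⟨m, hm⟩⁻¹), ⟨_, rfl⟩, ?_⟩
      apply Subtype.ext
      rw [hφ]
      change k * m⁻¹ * a * (k * m⁻¹)⁻¹ = b
      rw [← hk2, ← hm2]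
      group) (n + 1) hS1 ⟨t, htS⟩ (fun h => ht1 (congrArg Subtype.val h))
  -- the stabiliser
  set st := {h : φ.range // (h : MulAut (S : Subgroup G)) ⟨t, htS⟩ = ⟨t, htS⟩} with hst
  set D := (N ⊓ Subgroup.centralizer ({t} : Set G) : Subgroup G) with hD
  let ψ : D →* MulAut (S : Subgroup G) := φ.comp (Subgroup.inclusion inf_le_left)
  have hψ : ∀ d : D, ψ d = φ ⟨d, d.2.1⟩ := fun _ => rfl
  have hcardst : Nat.card ψ.range = Nat.card st := by
    refine Nat.card_congr ⟨fun h => ⟨⟨h.1, ?_⟩, ?_⟩, fun h => ⟨h.1.1, ?_⟩, fun _ => rfl, fun _ => rfl⟩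
    · obtain ⟨d, hd⟩ := h.2
      exact ⟨⟨d, d.2.1⟩, hd⟩
    · obtain ⟨d, hd⟩ := h.2
      apply Subtype.ext
      change ((h.1 ⟨t, htS⟩ : (S : Subgroup G)) : G) = t
      rw [← hd, hψ, hφ]
      have h3 := Subgroup.mem_centralizer_singleton_iff.1 d.2.2
      change (d : G) * t * (d : G)⁻¹ = t
      rw [h3, mul_inv_cancel_right]
    · obtain ⟨m, hm⟩ := h.1.2
      have h3 := h.2
      rw [← hm] at h3
      have h4 := hφ m ⟨t, htS⟩
      rw [h3] at h4
      change t = m * t * (m : G)⁻¹ at h4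
      rw [eq_mul_inv_iff_mul_eq] at h4
      exact ⟨⟨m, m.2, Subgroup.mem_centralizer_singleton_iff.2 h4.symm⟩, hm⟩
  have hkerψ : Nat.card ψ.ker = Nat.card (Subgroup.centralizer ((S : Subgroup G) : Set G)) := by
    refine Nat.card_congr ⟨fun h => ⟨h.1, ?_⟩, fun h => ⟨⟨h.1, ⟨?_, ?_⟩⟩, ?_⟩, fun _ => rfl, fun _ => rfl⟩
    · have h3 := h.2
      rw [MonoidHom.mem_ker, hψ, hker] at h3
      exact h3
    · exact Subgroup.centralizer_le_normalizer _ h.2
    · exact Subgroup.mem_centralizer_singleton_iff.2 (Subgroup.mem_centralizer_iff.1 h.2 t htS).symm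
    · rw [MonoidHom.mem_ker, hψ, hker]
      exact h.2
  have hmul : Nat.card st * (2 * Nat.card (Subgroup.centralizer ((Q : Subgroup L) : Set L))) =
      2 * Nat.card (Subgroup.normalizer ((Q : Subgroup L) : Set L)) := by
    rw [← hNC, ← hCS, ← hcardst, ← hkerψ, ← Subgroup.index_ker, mul_comm]
    exact ψ.ker.card_mul_index
  -- orbit of `N_L(Q)`
  have hQn1 : ∃ b ∈ Q, b ≠ 1 := by
    have h3 : 1 < Nat.card (Q : Subgroup L) := by
      have h4 : 0 < Nat.card (Q : Subgroup L) := Nat.card_pos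
      have h5 : 4 ≤ Nat.card (Q : Subgroup L) := Nat.le_of_dvd h4 hQ2
      omega
    have h4 : Nontrivial (Q : Subgroup L) := Finite.one_lt_card_iff_nontrivial.1 h3
    obtain ⟨b, hb⟩ := exists_ne (1 : (Q : Subgroup L))
    exact ⟨b, b.2, fun h => hb (Subtype.ext h)⟩
  obtain ⟨b0, hb0, hb1⟩ := hQn1
  set M := Subgroup.normalizer ((Q : Subgroup L) : Set L) with hM
  have htrans : ∀ b ∈ Q, ∀ b' ∈ Q, b ≠ 1 → b' ≠ 1 → ∃ n ∈ M, n * b * n⁻¹ = b' := by
    intro b hb b' hb' hb1 hb1'
    have hQc : IsMulCommutative (Q : Subgroup L) := by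
      refine ⟨⟨fun x y => Subtype.ext ?_⟩⟩
      have h1 := hQ x x.2
      have h3 := hQ y y.2
      have h4 := hQ (x * y) (mul_mem x.2 y.2)
      change (x : L) * y = y * x
      have h5 : (x : L)⁻¹ = x := inv_eq_of_mul_eq_one_left h1
      have h6 : (y : L)⁻¹ = y := inv_eq_of_mul_eq_one_left h3
      have h7 : ((x : L) * y)⁻¹ = x * y := inv_eq_of_mul_eq_one_left h4
      rw [← h7, mul_inv_rev, h5, h6]
    have ho : ∀ b ∈ Q, b ≠ 1 → orderOf b = 2 := fun b hb hb1 =>
      orderOf_eq_prime (by rw [pow_two]; exact hQ b hb) hb1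
    obtain ⟨g, hg⟩ := isConj_iff.1 (hconj b b' (ho b hb hb1) (ho b' hb' hb1'))
    obtain ⟨n, hn, h⟩ := Q.conj_eq_normalizer_conj_of_mem b g⁻¹ hb (by
      rw [inv_inv, hg]; exact hb')
    refine ⟨n⁻¹, inv_mem hn, ?_⟩
    rw [inv_inv] at h ⊢
    rw [← h, hg]
  let act : MulAction M L := MulAction.compHom L ((MulAut.conj : L →* MulAut L).comp M.subtype)
  have hact : ∀ (n : M) (g : L), n • g = n * g * (n : L)⁻¹ := fun n g => rfl
  have horb : ((Q : Subgroup L) : Set L) \ {1} ⊆ MulAction.orbit M b0 := by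
    rintro b ⟨hb, hbn⟩
    obtain ⟨m, hm, h⟩ := htrans b0 hb0 b hb hb1 hbn
    exact ⟨⟨m, hm⟩, h⟩
  have h3 := MulAction.index_stabilizer M b0
  have h4 := (MulAction.stabilizer M b0).card_mul_index
  rw [h3] at h4
  have h5 : Nat.card Q - 1 ≤ (MulAction.orbit M b0).ncard := by
    have h6 := Set.ncard_le_ncard horb (Set.toFinite _)
    rw [Set.ncard_sdiff (by rw [Set.singleton_subset_iff]; exact (Q : Subgroup L).one_mem),
      Set.ncard_singleton, ← Nat.card_coe_set_eq] at h6
    exact h6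
  have h6 : Nat.card (Subgroup.centralizer ((Q : Subgroup L) : Set L)) ≤
      Nat.card (MulAction.stabilizer M b0) := by
    refine Nat.card_le_card_of_injective
      (fun c => ⟨⟨c.1, Subgroup.centralizer_le_normalizer _ c.2⟩, ?_⟩) ?_
    · rw [MulAction.mem_stabilizer_iff, hact]
      have h7 := Subgroup.mem_centralizer_iff.1 c.2 b0 hb0
      change (c : L) * b0 * (c : L)⁻¹ = b0
      rw [← h7, mul_inv_cancel_right]
    · intro c c' h
      exact Subtype.ext (congrArg (fun x => ((x : MulAction.stabilizer M b0) : L)) h)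
  have h7 : Nat.card (Subgroup.centralizer ((Q : Subgroup L) : Set L)) * (Nat.card Q - 1) ≤ Nat.card M := by
    rw [← h4]
    exact Nat.mul_le_mul h6 h5
  have hCpos : 0 < Nat.card (Subgroup.centralizer ((Q : Subgroup L) : Set L)) := Nat.card_pos
  have h8 : Nat.card Q - 1 ≤ Nat.card st := by
    have h9 : Nat.card (Subgroup.centralizer ((Q : Subgroup L) : Set L)) * (Nat.card Q - 1) ≤
        Nat.card (Subgroup.centralizer ((Q : Subgroup L) : Set L)) * Nat.card st := by
      have : Nat.card M = Nat.card (Subgroup.centralizer ((Q : Subgroup L) : Set L)) * Nat.card st := by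
        have := hmul
        nlinarith
      rw [← this]; exact h7
    exact Nat.le_of_mul_le_mul_left h9 hCpos
  have h9 : 2 ^ n ≤ n + 2 := by
    have h10 := h8.trans hle
    rw [hn'] at h10
    omega
  have h10 := pow_le n h9
  have h11 : 2 ≤ n := by
    by_contra hcon
    have h12 : n = 0 ∨ n = 1 := by omega
    rw [hn'] at hQ2
    rcases h12 with rfl | rfl
    · norm_num at hQ2
    · norm_num at hQ2
  have h12 : n = 2 := by omega
  rw [hn', h12]
  norm_num

end Cfsg.Agent.Ree.ReduceCount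
end
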