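import Mathlib
import Cfsg.Agent.TwoFusion.PSLTwoGood
import Cfsg.Agent.SmallSimple.PSLTwoPart
import Cfsg.Agent.ClassicalGeometry.PSL2Solvable
set_option linter.all false

/-!
# S0343 [R1], facts on `PSL(2, q)`
-/

set_option autoImplicit false

namespace Cfsg.Agent.Ree.ReducePSL

open Matrix
open Cfsg.Agent.ClassicalGeometry.PSL2Klein (mk mk_eq_mk mk_eq_one)

local notation "SL2" => Matrix.SpecialLinearGroup (Fin 2)
local notation "PSL2" => Matrix.ProjectiveSpecialLinearGroup (Fin 2)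

variable {F : Type*} [Field F] [Fintype F]

theorem psl_center (h : 4 ≤ Fintype.card F) : ∀ z : PSL2 F, (∀ x, x * z = z * x) → z = 1 := by
  intro z hz
  have hs : IsSimpleGroup (PSL2 F) :=
    Matrix.ProjectiveSpecialLinearGroup.rank_two_simple (by rwa [Nat.card_eq_fintype_card])
  have h1 : z ∈ Subgroup.center (PSL2 F) := Subgroup.mem_center_iff.2 hz
  rcases (Subgroup.center (PSL2 F)).normal_of_characteristic.eq_bot_or_eq_top with h2 | h2
  · rw [h2] at h1
    exact h1
  · exfalso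
    apply Cfsg.Agent.ClassicalGeometry.PSL2Solvable.not_isSolvable_psl F h
    apply Group.isSolvable_of_comm
    intro a b
    have : b ∈ Subgroup.center (PSL2 F) := by rw [h2]; exact Subgroup.mem_top b
    exact Subgroup.mem_center_iff.1 this a

/-- Upper unitriangular matrices. -/
def up (x : F) : SL2 F := ⟨!![1, x; 0, 1], by simp [Matrix.det_fin_two]⟩

theorem up_mul (x y : F) : up x * up y = up (x + y) := by
  apply Subtype.ext
  change (!![1, x; 0, 1] : Matrix (Fin 2) (Fin 2) F) * !![1, y; 0, 1] = !![1, x + y; 0, 1]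
  rw [Matrix.mul_fin_two]
  simp [add_comm]

theorem up_zero : up (0 : F) = 1 := by
  apply Subtype.ext
  change (!![1, 0; 0, 1] : Matrix (Fin 2) (Fin 2) F) = 1
  rw [Matrix.one_fin_two]

theorem up_injective : Function.Injective (up : F → SL2 F) := by
  intro x y h
  have h1 := congrArg (fun A : SL2 F => A.1 0 1) h
  simpa [up] using h1

/-- Diagonal matrices. -/
def dg (a : F) (ha : a ≠ 0) : SL2 F := ⟨!![a, 0; 0, a⁻¹], by simp [Matrix.det_fin_two, ha]⟩

theorem dg_up (a : F) (ha : a ≠ 0) (x : F) : dg a ha * up x = up (a ^ 2 * x) * dg a ha := by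
  apply Subtype.ext
  change (!![a, 0; 0, a⁻¹] : Matrix (Fin 2) (Fin 2) F) * !![1, x; 0, 1] = !![1, a ^ 2 * x; 0, 1] * !![a, 0; 0, a⁻¹]
  rw [Matrix.mul_fin_two, Matrix.mul_fin_two]
  ext i j
  fin_cases i <;> fin_cases j <;> simp <;> field_simp

theorem even_case (h : Even (Fintype.card F)) : ∃ Q : Sylow 2 (PSL2 F), (∀ x ∈ Q, x * x = 1) ∧
    Nat.card Q = Fintype.card F ∧ (∀ x y : PSL2 F, orderOf x = 2 → orderOf y = 2 → IsConj x y) := by
  classical
  have hp : Fact (Nat.Prime 2) := ⟨Nat.prime_two⟩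
  have h2 : CharP F 2 := by
    obtain ⟨p, hp⟩ := CharP.exists F
    have : Fact p.Prime := ⟨CharP.char_is_prime F p⟩
    obtain ⟨n, hpp, hn⟩ := FiniteField.card F p
    rw [hn] at h
    have h3 : Even p := (Nat.even_pow.1 h).1
    have h4 := (Nat.Prime.even_iff hpp).1 h3
    rwa [← h4]
  obtain ⟨n, -, hn⟩ := FiniteField.card F 2
  set q := Fintype.card F with hq
  have hcard := Cfsg.Agent.SmallSimple.PSLTwoPart.card_psl_two_even h
  rw [← hq] at hcard
  have hneg : ∀ A : SL2 F, -A = A := by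
    intro A
    apply Subtype.ext
    ext i j
    change -(A.1 i j) = A.1 i j
    exact CharTwo.neg_eq _
  let f : Multiplicative F →* PSL2 F :=
    { toFun := fun x => mk (up x.toAdd)
      map_one' := by
        change mk (up 0) = 1
        rw [up_zero]; rfl
      map_mul' := fun x y => by
        change mk (up (x.toAdd + y.toAdd)) = mk (up x.toAdd) * mk (up y.toAdd)
        rw [← up_mul]; rfl }
  have hf : Function.Injective f := by
    intro x y hxy
    have h3 : up x.toAdd = up y.toAdd := by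
      rcases mk_eq_mk.1 hxy with h | h
      · exact h
      · rw [hneg] at h; exact h
    exact Multiplicative.toAdd.injective (up_injective h3)
  have hUcard : Nat.card f.range = q := by
    have h3 : Nat.card (Multiplicative F) = q := by
      rw [hq, ← Nat.card_eq_fintype_card]; rfl
    rw [← h3]
    exact (Nat.card_congr (MonoidHom.ofInjective hf).toEquiv).symm
  have hq2 : 2 ≤ q := Fintype.one_lt_card
  have hfac : (Nat.card (PSL2 F)).factorization 2 = n := by
    rw [hcard, hn]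
    have h3 : (2 : ℕ) ^ (n : ℕ) ≠ 0 := by positivity
    have h5 : Odd ((2 ^ (n : ℕ)) ^ 2 - 1) := by
      have h6 : Even (((2 : ℕ) ^ (n : ℕ)) ^ 2) := by
        rw [Nat.even_pow, Nat.even_pow]
        exact ⟨⟨even_two, n.pos.ne'⟩, two_ne_zero⟩
      have h7 : 1 ≤ ((2 : ℕ) ^ (n : ℕ)) ^ 2 := Nat.one_le_pow _ _ (by positivity)
      exact Nat.Even.sub_odd h7 h6 odd_one
    have h4 : ((2 ^ (n : ℕ)) ^ 2 - 1) ≠ 0 := by
      intro h6
      rw [h6] at h5
      exact absurd h5 (by decide)
    rw [Nat.factorization_mul h3 h4, Finsupp.add_apply, Nat.Prime.factorization_pow Nat.prime_two,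
      Finsupp.single_eq_same, Nat.factorization_eq_zero_of_not_dvd (by
        rw [← even_iff_two_dvd, Nat.not_even_iff_odd]; exact h5), add_zero]
  let Q : Sylow 2 (PSL2 F) := Sylow.ofCard f.range (by rw [hUcard, hfac, ← hn])
  have hQ : (Q : Subgroup (PSL2 F)) = f.range := rfl
  have hQmem : ∀ x, x ∈ Q → ∃ a : F, mk (up a) = x := by
    intro x hx
    have : x ∈ f.range := hx
    obtain ⟨a, ha⟩ := this
    exact ⟨a.toAdd, ha⟩
  refine ⟨Q, ?_, hUcard, ?_⟩
  · intro x hx
    obtain ⟨a, rfl⟩ := hQmem x hx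
    change mk (up a * up a) = 1
    rw [up_mul, CharTwo.add_self_eq_zero, up_zero]
    rfl
  · -- every involution is conjugate to `mk (up 1)`
    have key : ∀ x : PSL2 F, orderOf x = 2 → IsConj (mk (up 1)) x := by
      intro x hx
      obtain ⟨R, hR⟩ : ∃ R : Sylow 2 (PSL2 F), Subgroup.zpowers x ≤ R := by
        apply IsPGroup.exists_le_sylow
        apply IsPGroup.of_card (n := 1)
        rw [Nat.card_zpowers, hx, pow_one]
      obtain ⟨g, hg⟩ := MulAction.exists_smul_eq (PSL2 F) R Q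
      have h3 : g * x * g⁻¹ ∈ Q := by
        rw [← hg]
        have : x ∈ (R : Subgroup (PSL2 F)) := hR (Subgroup.mem_zpowers x)
        exact Subgroup.smul_mem_pointwise_smul x (MulAut.conj g) (R : Subgroup (PSL2 F)) this
      obtain ⟨a, ha⟩ := hQmem _ h3
      have ha0 : a ≠ 0 := by
        rintro rfl
        rw [up_zero] at ha
        have h4 : g * x * g⁻¹ = 1 := ha.symm
        rw [mul_inv_eq_one] at h4
        have h5 : x = 1 := mul_left_cancel (h4.trans (mul_one g).symm)
        rw [h5, orderOf_one] at hx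
        omega
      obtain ⟨b, hb⟩ : ∃ b : F, b ^ 2 = a := by
        obtain ⟨b, hb⟩ := FiniteField.isSquare_of_char_two (CharP.ringChar_of_prime_eq_zero
          Nat.prime_two (by exact_mod_cast CharP.cast_eq_zero F 2)) a
        exact ⟨b, by rw [hb, pow_two]⟩
      have hb0 : b ≠ 0 := by
        rintro rfl
        apply ha0
        rw [← hb]; simp
      have h4 := dg_up b hb0 1
      rw [hb, mul_one] at h4
      have h5 : mk (dg b hb0) * mk (up 1) * (mk (dg b hb0))⁻¹ = mk (up a) := by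
        have h6 : mk (dg b hb0) * mk (up 1) = mk (up a) * mk (dg b hb0) := by
          change mk (dg b hb0 * up 1) = mk (up a * dg b hb0)
          rw [h4]
        rw [h6, mul_inv_cancel_right]
      have h7 : IsConj (mk (up 1)) (mk (up a)) := isConj_iff.2 ⟨_, h5⟩
      rw [ha] at h7
      exact h7.trans (isConj_iff.2 ⟨g⁻¹, by group⟩)
    intro x y hx hy
    exact (key x hx).symm.trans (key y hy)

/-- The normaliser of a Sylow 2-subgroup (a Klein four-group). -/
theorem card_normalizer (hodd : Odd (Fintype.card F))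
    (h8 : Fintype.card F % 8 = 3 ∨ Fintype.card F % 8 = 5) (P : Sylow 2 (PSL2 F)) :
    Nat.card (Subgroup.normalizer ((P : Subgroup (PSL2 F)) : Set (PSL2 F))) = 12 := by
  have h2' : Fact (Nat.Prime 2) := ⟨Nat.prime_two⟩
  have h2 : (2 : F) ≠ 0 := Cfsg.Agent.ClassicalGeometry.SLTwoFour.two_ne_zero_of_odd hodd
  have hk : ∀ Q : Sylow 2 (PSL2 F), IsKleinFour (Q : Subgroup (PSL2 F)) :=
    fun Q => Cfsg.Agent.S0276.result rfl h8 Q
  have h1 : Nat.card {V : Subgroup (PSL2 F) // IsKleinFour V} = Nat.card (Sylow 2 (PSL2 F)) := by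
    symm
    refine Nat.card_congr (Equiv.ofBijective (fun Q => ⟨(Q : Subgroup (PSL2 F)), hk Q⟩) ⟨?_, ?_⟩)
    · intro Q R h
      exact Sylow.ext (congrArg Subtype.val h)
    · rintro ⟨V, hV⟩
      have hVc : Nat.card V = 4 := IsKleinFour.card_four
      have hVp : IsPGroup 2 V := IsPGroup.of_card (n := 2) hVc
      obtain ⟨Q, hQ⟩ := hVp.exists_le_sylow
      refine ⟨Q, Subtype.ext ?_⟩
      have := hk Q
      exact (Subgroup.eq_of_le_of_card_ge hQ (by
        rw [hVc]; exact (IsKleinFour.card_four (G := (Q : Subgroup (PSL2 F)))).le)).symm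
  have h3 := Cfsg.Agent.ClassicalGeometry.PSL2Klein.card_klein (F := F) h2
  rw [h1, Sylow.card_eq_index_normalizer P] at h3
  have h4 := (Subgroup.normalizer ((P : Subgroup (PSL2 F)) : Set (PSL2 F))).card_mul_index
  rw [← h3] at h4
  exact Nat.eq_of_mul_eq_mul_right (Nat.pos_of_ne_zero Subgroup.index_ne_zero_of_finite) h4

theorem center_trivial (hodd : Odd (Fintype.card F))
    (h8 : Fintype.card F % 8 = 3 ∨ Fintype.card F % 8 = 5) : ∀ z : PSL2 F, (∀ x, x * z = z * x) → z = 1 := by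
  intro z hz
  by_contra hz1
  have h2' : Fact (Nat.Prime 2) := ⟨Nat.prime_two⟩
  obtain ⟨P⟩ : Nonempty (Sylow 2 (PSL2 F)) := inferInstance
  have hPk : IsKleinFour (P : Subgroup (PSL2 F)) := Cfsg.Agent.S0276.result rfl h8 P
  have h1 : z ∈ (P : Subgroup (PSL2 F)) := Cfsg.Agent.TwoFusion.PSLTwoGood.selfc hodd h8 P (by
    rw [Subgroup.mem_centralizer_iff]
    exact fun y _ => hz y)
  have hP4 : Nat.card (P : Subgroup (PSL2 F)) = 4 := IsKleinFour.card_four
  obtain ⟨a, ha, ha1, haz⟩ : ∃ a ∈ (P : Subgroup (PSL2 F)), a ≠ 1 ∧ a ≠ z := by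
    obtain ⟨y, -, hy⟩ := Set.exists_mem_notMem_of_ncard_lt_ncard
      (s := {(1 : (P : Subgroup (PSL2 F))), ⟨z, h1⟩})
      (t := (Set.univ : Set (P : Subgroup (PSL2 F)))) (lt_of_le_of_lt (Set.ncard_insert_le _ _)
        (by rw [Set.ncard_singleton, Set.ncard_univ, hP4]; norm_num))
    simp only [Set.mem_insert_iff, Set.mem_singleton_iff, not_or] at hy
    exact ⟨y, y.2, fun h => hy.1 (Subtype.ext h), fun h => hy.2 (Subtype.ext h)⟩
  have hz2 := Cfsg.Agent.TwoFusion.PSLTwoGood.klein_sq hPk h1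
  have ha2 := Cfsg.Agent.TwoFusion.PSLTwoGood.klein_sq hPk ha
  obtain ⟨g, hg⟩ := isConj_iff.1 (Cfsg.Agent.ClassicalGeometry.SLTwoFour.psl_isConj hodd z a
    (Cfsg.Agent.TwoFusion.PSLTwoGood.orderOf_two hz1 hz2) (Cfsg.Agent.TwoFusion.PSLTwoGood.orderOf_two ha1 ha2))
  apply haz
  rw [← hg, hz g, mul_inv_cancel_right]

end Cfsg.Agent.Ree.ReducePSL
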