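import Cfsg.Prelude.Def_Blocks
import Cfsg.Agent.Characters.Core
import Cfsg.Agent.Blocks.Basic
import Cfsg.Agent.SmallSimple.InvolColumn
import Cfsg.Agent.SmallSimple.PSLTwoPart
import Cfsg.Agent.S0135
import Mathlib
import Cfsg.Prelude.Def_Characters
import Cfsg.Agent.Characters.ClassMul
import Cfsg.Agent.OddOrderCharacters.ClassSum
import Cfsg.Agent.Ree.Interface
set_option linter.all false

-- part: Ree/DegVal
section
/-!
# Degrees and values at an involution `t`, as integers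

`deg χ = χ 1`, `val t χ = χ t`; congruence modulo `8`, divisibility, central character.
-/

set_option autoImplicit false

open Cfsg Cfsg.Agent.Characters.Core
open scoped ComplexConjugate

namespace Cfsg.Agent.Ree.DegVal

variable {G : Type*} [Group G]

/-- The degree. -/
noncomputable def deg (χ : IrrCharacter G) : ℤ := charDegree (χ : G → ℂ)

/-- The value at `t`. -/
noncomputable def val (t : G) (χ : IrrCharacter G) : ℤ := ⌊((χ : G → ℂ) t).re⌋

theorem deg_coe (χ : IrrCharacter G) : (deg χ : ℂ) = (χ : G → ℂ) 1 := by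
  rw [deg, Int.cast_natCast, Blocks.Basic.irr_one_eq_charDegree χ.2]

theorem deg_pos (χ : IrrCharacter G) : 0 < deg χ := by
  rw [deg]
  exact_mod_cast Blocks.Basic.charDegree_pos χ.2

theorem val_coe {t : G} (ht : orderOf t = 2) (χ : IrrCharacter G) :
    (val t χ : ℂ) = (χ : G → ℂ) t := by
  have ht2 : t ^ 2 = 1 := by rw [← ht, pow_orderOf_eq_one]
  obtain ⟨n, z, -, hz, -, -⟩ :=
    SmallSimple.InvolColumn.exists_int_of_char (isIrr_isCharacter χ.2) ht2
  rw [val, hz]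
  simp

theorem abs_val_le {t : G} (ht : orderOf t = 2) (χ : IrrCharacter G) : |val t χ| ≤ deg χ := by
  have ht2 : t ^ 2 = 1 := by rw [← ht, pow_orderOf_eq_one]
  obtain ⟨n, z, hn, hz, hle, -⟩ :=
    SmallSimple.InvolColumn.exists_int_of_char (isIrr_isCharacter χ.2) ht2
  have h1 : val t χ = z := by
    have := val_coe ht χ
    rw [hz] at this
    exact_mod_cast this
  have h2 : deg χ = n := by
    have := deg_coe χ
    rw [hn] at this
    exact_mod_cast this
  rw [h1, h2]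
  exact hle

theorem deg_one (χ : IrrCharacter G) (hχ : (χ : G → ℂ) = fun _ => 1) : deg χ = 1 := by
  have h1 : (deg χ : ℂ) = 1 := by rw [deg_coe, hχ]
  exact_mod_cast h1

theorem val_one {t : G} (ht : orderOf t = 2) (χ : IrrCharacter G)
    (hχ : (χ : G → ℂ) = fun _ => 1) : val t χ = 1 := by
  have h1 : (val t χ : ℂ) = 1 := by rw [val_coe ht, hχ]
  exact_mod_cast h1

/-- A subgroup all of whose nonidentity elements have the same character value. -/
theorem card_dvd_of_const {χ : G → ℂ} (hχ : IsCharacter G χ) (S : Subgroup G) [Finite S] {d c : ℤ}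
    (hd : χ 1 = d) (hc : ∀ x ∈ S, x ≠ 1 → χ x = c) : (Nat.card S : ℤ) ∣ d - c := by
  classical
  have := Fintype.ofFinite S
  obtain ⟨n, hn⟩ := classInner_isNat (isCharacter_comp S.subtype hχ) (isCharacter_one (G := S))
  rw [classInner_def] at hn
  have h1 : ∑ s : S, (χ ∘ S.subtype) s * conj ((1 : S → ℂ) s) = d - c + Nat.card S * c := by
    have h2 : ∀ s : S, (χ ∘ S.subtype) s * conj ((1 : S → ℂ) s) =
        (if s = 1 then ((d : ℂ) - c) else 0) + c := by
      intro s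
      simp only [Pi.one_apply, map_one, mul_one]
      by_cases hs : s = 1
      · rw [if_pos hs, hs]
        simp [hd]
      · rw [if_neg hs, zero_add]
        exact hc _ s.2 (fun h => hs (Subtype.ext h))
    rw [Finset.sum_congr rfl fun s _ => h2 s, Finset.sum_add_distrib, Finset.sum_ite_eq',
      if_pos (Finset.mem_univ _), Finset.sum_const, Finset.card_univ, nsmul_eq_mul,
      Nat.card_eq_fintype_card]
  rw [h1] at hn
  have hS : (Nat.card S : ℂ) ≠ 0 := card_ne_zero_complex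
  rw [inv_mul_eq_iff_eq_mul₀ hS] at hn
  refine ⟨n - c, ?_⟩
  have h3 : ((d - c : ℤ) : ℂ) = ((Nat.card S * (n - c) : ℤ) : ℂ) := by
    push_cast
    linear_combination hn
  exact_mod_cast h3

/-- Congruence modulo the order of an elementary abelian `2`-subgroup with all involutions
conjugate. -/
theorem card_dvd {t : G} (ht : orderOf t = 2)
    (hconj : ∀ u v : G, orderOf u = 2 → orderOf v = 2 → IsConj u v) (S : Subgroup G) [Finite S]
    (hS : ∀ x ∈ S, x * x = 1) (χ : IrrCharacter G) : (Nat.card S : ℤ) ∣ deg χ - val t χ := by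
  refine card_dvd_of_const (isIrr_isCharacter χ.2) S (deg_coe χ).symm fun x hx hx1 => ?_
  rw [val_coe ht]
  refine Blocks.Basic.irr_isConj χ.2 (hconj x t ?_ ht)
  exact orderOf_eq_prime (by rw [pow_two]; exact hS x hx) hx1

theorem mod8 [Finite G] {t : G} (ht : orderOf t = 2)
    (hconj : ∀ u v : G, orderOf u = 2 → orderOf v = 2 → IsConj u v)
    (hcard : ∀ P : Sylow 2 G, Nat.card P = 8)
    (hexp : ∀ P : Sylow 2 G, ∀ x ∈ (P : Subgroup G), x * x = 1) (χ : IrrCharacter G) :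
    (8 : ℤ) ∣ deg χ - val t χ := by
  obtain ⟨P⟩ : Nonempty (Sylow 2 G) := inferInstance
  have h1 := card_dvd ht hconj (P : Subgroup G) (hexp P) χ
  have h2 : Nat.card (P : Subgroup G) = 8 := hcard P
  rw [h2] at h1
  exact_mod_cast h1

theorem deg_dvd [Finite G] (χ : IrrCharacter G) : deg χ ∣ (Nat.card G : ℤ) := by
  obtain ⟨n, ρ, hρ, h⟩ := χ.2
  have h1 := S0135.result ρ
  have h2 := deg_coe χ
  rw [← h, ρ.char_one] at h2
  have h3 : deg χ = (Module.finrank ℂ (Fin n → ℂ) : ℤ) := by exact_mod_cast h2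
  rw [h3]
  exact_mod_cast h1

/-- Integrality of the central character. -/
theorem omega [Finite G] {t : G} (ht : orderOf t = 2) (χ : IrrCharacter G) :
    deg χ * (Nat.card (Subgroup.centralizer ({t} : Set G)) : ℤ) ∣ (Nat.card G : ℤ) * val t χ := by
  have h1 := SmallSimple.InvolColumn.dvd_index_mul χ.2 (val_coe ht χ).symm
  have h2 : ((Subgroup.centralizer ({t} : Set G)).index : ℤ) *
      (Nat.card (Subgroup.centralizer ({t} : Set G)) : ℤ) = (Nat.card G : ℤ) := by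
    exact_mod_cast (Subgroup.centralizer ({t} : Set G)).index_mul_card
  obtain ⟨k, hk⟩ := h1
  refine ⟨k, ?_⟩
  rw [← h2, deg]
  linear_combination (Nat.card (Subgroup.centralizer ({t} : Set G)) : ℤ) * hk

/-- `|C(t)| = 2 |L|`. -/
theorem card_centralizer [Finite G] {t : G} (ht : orderOf t = 2) {L : Subgroup G}
    (hL : L ≤ Subgroup.centralizer ({t} : Set G)) (htL : t ∉ L)
    (hcov : ∀ g ∈ Subgroup.centralizer ({t} : Set G), g ∈ L ∨ t * g ∈ L) :
    Nat.card (Subgroup.centralizer ({t} : Set G)) = 2 * Nat.card L := by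
  have ht2 : t * t = 1 := by rw [← pow_two, ← ht, pow_orderOf_eq_one]
  have htc : t ∈ Subgroup.centralizer ({t} : Set G) := Subgroup.mem_centralizer_singleton_iff.2 rfl
  let f : L ⊕ L → Subgroup.centralizer ({t} : Set G) :=
    Sum.elim (fun l => ⟨l, hL l.2⟩) (fun l => ⟨t * l, mul_mem htc (hL l.2)⟩)
  have hf : Function.Bijective f := by
    have hne : ∀ l l' : L, (l : G) ≠ t * l' := by
      intro l l' h
      apply htL
      have : t = l * (l' : G)⁻¹ := by rw [h, mul_inv_cancel_right]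
      rw [this]
      exact mul_mem l.2 (inv_mem l'.2)
    constructor
    · rintro (l | l) (l' | l') h
      · have h1 : (l : G) = l' :=
          congrArg (fun x : Subgroup.centralizer ({t} : Set G) => (x : G)) h
        exact congrArg Sum.inl (Subtype.ext h1)
      · exact absurd (congrArg Subtype.val h) (hne l l')
      · exact absurd (congrArg Subtype.val h).symm (hne l' l)
      · have h1 : t * (l : G) = t * l' :=
          congrArg (fun x : Subgroup.centralizer ({t} : Set G) => (x : G)) h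
        exact congrArg Sum.inr (Subtype.ext (mul_left_cancel h1))
    · intro g
      rcases hcov g g.2 with h | h
      · exact ⟨Sum.inl ⟨g, h⟩, rfl⟩
      · refine ⟨Sum.inr ⟨t * g, h⟩, Subtype.ext ?_⟩
        change t * (t * (g : G)) = g
        rw [← mul_assoc, ht2, one_mul]
  rw [← Nat.card_congr (Equiv.ofBijective f hf), Nat.card_sum, two_mul]

/-- The order of `C(t) = ⟨t⟩ × PSL(2, q)`. -/
theorem card_centralizer_psl [Finite G] {F : Type*} [Field F] [Fintype F]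
    (hF : Odd (Fintype.card F)) {t : G} (ht : orderOf t = 2) {L : Subgroup G}
    (hL : L ≤ Subgroup.centralizer ({t} : Set G)) (htL : t ∉ L)
    (hcov : ∀ g ∈ Subgroup.centralizer ({t} : Set G), g ∈ L ∨ t * g ∈ L)
    (e : Nonempty (L ≃* Matrix.ProjectiveSpecialLinearGroup (Fin 2) F)) :
    (Nat.card (Subgroup.centralizer ({t} : Set G)) : ℤ) =
      (Fintype.card F : ℤ) * ((Fintype.card F : ℤ) ^ 2 - 1) := by
  obtain ⟨e⟩ := e
  rw [card_centralizer ht hL htL hcov, Nat.card_congr e.toEquiv,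
    SmallSimple.PSLTwoPart.card_psl_two_odd hF]
  have : 1 ≤ Fintype.card F ^ 2 := Nat.one_le_pow _ _ Fintype.card_pos
  push_cast [Nat.cast_sub this]
  ring

end Cfsg.Agent.Ree.DegVal
end

-- part: Ree/ClassSum
section
/-!
# S0343, class sums

`phi g` is the number of pairs `(u, u')` of involutions with `u u' = g`.

* `sum_class` : `∑ χ(g) χ(t)² / χ(1) = phi(g) |C(t)|² / |G|` if all involutions are conjugate;
* `phi_mul` : `phi (t l) = 2 phi_L(l)` for `l` of odd order in `L`, where `C(t) = ⟨t⟩ × L`;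
* `sum_phi` : `∑_l phi_L(l) conj τ(l) = n² τ(w)² / τ(1)` for `± τ` irreducible, constant on the `n` involutions;
* `class_r` : the class equations for the section of `t`;
* `class_ab` : the class equations for the TI set.
-/

set_option autoImplicit false

open Cfsg Cfsg.Agent.Characters
open scoped ComplexConjugate

namespace Cfsg.Agent.Ree.ClassSum

/-- The number of pairs of involutions with product `g`. -/
noncomputable def phi {G : Type*} [Group G] (g : G) : ℕ :=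
  Nat.card {x : G × G // orderOf x.1 = 2 ∧ orderOf x.2 = 2 ∧ x.1 * x.2 = g}

section General

variable {G : Type*} [Group G]

theorem phi_def (g : G) :
    phi g = Nat.card {x : G × G // orderOf x.1 = 2 ∧ orderOf x.2 = 2 ∧ x.1 * x.2 = g} := rfl

theorem orderOf_isConj {x y : G} (h : IsConj x y) : orderOf x = orderOf y := by
  obtain ⟨c, rfl⟩ := isConj_iff.1 h
  exact (MulAut.conj c).orderOf_eq x |>.symm

/-- The class equation. -/
theorem sum_class [Finite G] [Fintype (IrrCharacter G)]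
    (hconj : ∀ u v : G, orderOf u = 2 → orderOf v = 2 → IsConj u v) {t : G} (ht : orderOf t = 2)
    (g : G) :
    ∑ χ : IrrCharacter G, (χ : G → ℂ) g * (χ : G → ℂ) t ^ 2 / (χ : G → ℂ) 1 =
      (phi g : ℂ) * (Nat.card (Subgroup.centralizer ({t} : Set G)) : ℂ) ^ 2 / (Nat.card G : ℂ) := by
  have h1 := ClassMul.card_class_mul t t g
  have h2 : Nat.card {p : G × G // IsConj t p.1 ∧ IsConj t p.2 ∧ p.1 * p.2 = g} = phi g := by
    rw [phi_def]
    refine Nat.card_congr (Equiv.subtypeEquivRight fun p => ?_)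
    constructor
    · rintro ⟨ha, hb, hc⟩
      exact ⟨(orderOf_isConj ha).symm.trans ht, (orderOf_isConj hb).symm.trans ht, hc⟩
    · rintro ⟨ha, hb, hc⟩
      exact ⟨hconj _ _ ht ha, hconj _ _ ht hb, hc⟩
  rw [h2] at h1
  have h3 := congrArg conj h1
  have ht1 : t⁻¹ = t := by
    rw [inv_eq_iff_mul_eq_one, ← pow_two, ← ht, pow_orderOf_eq_one]
  have h4 : ∀ χ : IrrCharacter G, conj ((χ : G → ℂ) t) = (χ : G → ℂ) t := fun χ => by
    rw [← Core.isCharacter_apply_inv (Core.isIrr_isCharacter χ.2) t, ht1]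
  have h5 : ∀ χ : IrrCharacter G, conj ((χ : G → ℂ) 1) = (χ : G → ℂ) 1 := fun χ => by
    rw [← Core.isCharacter_apply_inv (Core.isIrr_isCharacter χ.2) 1, inv_one]
  simp only [map_mul, map_div₀, map_sum, Complex.conj_natCast, Complex.conj_conj, h4, h5] at h3
  have h6 : ∑ χ : IrrCharacter G, (χ : G → ℂ) g * (χ : G → ℂ) t ^ 2 / (χ : G → ℂ) 1 =
      ∑ χ : IrrCharacter G, (χ : G → ℂ) t * (χ : G → ℂ) t * (χ : G → ℂ) g / (χ : G → ℂ) 1 :=
    Finset.sum_congr rfl fun χ _ => by ring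
  rw [h6]
  have hG : (Nat.card G : ℂ) ≠ 0 := Core.card_ne_zero_complex
  have hi : (Nat.card (Subgroup.centralizer ({t} : Set G)) : ℂ) *
      ((Subgroup.centralizer ({t} : Set G)).index : ℂ) = (Nat.card G : ℂ) := by
    exact_mod_cast (Subgroup.centralizer ({t} : Set G)).card_mul_index
  have hc : (Nat.card (Subgroup.centralizer ({t} : Set G)) : ℂ) ≠ 0 := Core.card_ne_zero_complex
  rw [h3, ← hi]
  have hi0 : ((Subgroup.centralizer ({t} : Set G)).index : ℂ) ≠ 0 :=
    Nat.cast_ne_zero.2 Subgroup.index_ne_zero_of_finite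
  field_simp

end General

section Pairs

variable {G : Type*} [Group G] {t : G} {L : Subgroup G}

theorem sq_eq_one_of_orderOf {x : G} (h : orderOf x = 2) : x * x = 1 := by
  rw [← pow_two, ← h, pow_orderOf_eq_one]

theorem orderOf_eq_two {x : G} (h : x * x = 1) (h1 : x ≠ 1) : orderOf x = 2 := by
  have h2 : orderOf x ∣ 2 := orderOf_dvd_of_pow_eq_one (by rw [pow_two]; exact h)
  rcases (Nat.dvd_prime Nat.prime_two).1 h2 with h3 | h3
  · exact absurd (orderOf_eq_one_iff.1 h3) h1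
  · exact h3

/-- The pairs of involutions in `C(t) = ⟨t⟩ × L`. -/
theorem phi_mul [Finite G] (ht : orderOf t = 2) (hL : L ≤ Subgroup.centralizer ({t} : Set G)) (htL : t ∉ L)
    (hcov : ∀ g ∈ Subgroup.centralizer ({t} : Set G), g ∈ L ∨ t * g ∈ L) (l : L)
    (hl : ¬ 2 ∣ orderOf l) : phi (t * (l : G)) = 2 * phi l := by
  have ht2 := sq_eq_one_of_orderOf ht
  have ht1 : t⁻¹ = t := by rw [inv_eq_iff_mul_eq_one]; exact ht2
  have hcomm : ∀ x ∈ L, x * t = t * x := fun x hx =>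
    (Subgroup.mem_centralizer_singleton_iff.1 (hL hx))
  have hlt := hcomm l l.2
  have hne : ∀ x ∈ L, t * x ≠ 1 := by
    intro x hx h
    apply htL
    have : t = x⁻¹ := eq_inv_of_mul_eq_one_left h
    rw [this]
    exact L.inv_mem hx
  let A := {x : L × L // orderOf x.1 = 2 ∧ orderOf x.2 = 2 ∧ x.1 * x.2 = l}
  let X := {x : G × G // orderOf x.1 = 2 ∧ orderOf x.2 = 2 ∧ x.1 * x.2 = t * (l : G)}
  have hA : Nat.card A = phi l := rfl
  have hX : Nat.card X = phi (t * (l : G)) := rfl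
  have key : ∀ w : L, orderOf w = 2 → orderOf ((w : G)) = 2 := fun w hw => by
    rwa [Subgroup.orderOf_coe]
  have key2 : ∀ w : L, orderOf w = 2 → orderOf (t * (w : G)) = 2 := by
    intro w hw
    refine orderOf_eq_two ?_ (hne w w.2)
    have h1 := sq_eq_one_of_orderOf (key w hw)
    calc t * (w : G) * (t * (w : G)) = t * ((w : G) * t) * w := by group
      _ = (t * t) * (w * w) := by rw [hcomm w w.2]; group
      _ = 1 := by rw [ht2, h1, mul_one]
  let F : A ⊕ A → X := Sum.elim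
    (fun a => ⟨((a.1.1 : G), t * (a.1.2 : G)), key _ a.2.1, key2 _ a.2.2.1, by
      have : (a.1.1 : G) * (a.1.2 : G) = (l : G) := congrArg Subtype.val a.2.2.2
      calc (a.1.1 : G) * (t * (a.1.2 : G)) = (a.1.1 : G) * t * (a.1.2 : G) := by group
        _ = t * ((a.1.1 : G) * (a.1.2 : G)) := by rw [hcomm _ a.1.1.2]; group
        _ = _ := by rw [this]⟩)
    (fun a => ⟨(t * (a.1.1 : G), (a.1.2 : G)), key2 _ a.2.1, key _ a.2.2.1, by
      have : (a.1.1 : G) * (a.1.2 : G) = (l : G) := congrArg Subtype.val a.2.2.2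
      rw [mul_assoc, this]⟩)
  have hinj : Function.Injective F := by
    rintro (a | a) (b | b) h
    · have h1 : ((a.1.1 : G), t * (a.1.2 : G)) = ((b.1.1 : G), t * (b.1.2 : G)) :=
        congrArg Subtype.val h
      obtain ⟨h2, h3⟩ := Prod.ext_iff.1 h1
      congr 1
      exact Subtype.ext (Prod.ext (Subtype.ext h2) (Subtype.ext (mul_left_cancel h3)))
    · exfalso
      have h1 : ((a.1.1 : G), t * (a.1.2 : G)) = (t * (b.1.1 : G), (b.1.2 : G)) :=
        congrArg Subtype.val h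
      obtain ⟨h2, -⟩ := Prod.ext_iff.1 h1
      apply htL
      have h3 : t = (a.1.1 : G) * (b.1.1 : G)⁻¹ := eq_mul_inv_of_mul_eq h2.symm
      rw [h3]
      exact L.mul_mem a.1.1.2 (L.inv_mem b.1.1.2)
    · exfalso
      have h1 : (t * (a.1.1 : G), (a.1.2 : G)) = ((b.1.1 : G), t * (b.1.2 : G)) :=
        congrArg Subtype.val h
      obtain ⟨h2, -⟩ := Prod.ext_iff.1 h1
      apply htL
      have h3 : t = (b.1.1 : G) * (a.1.1 : G)⁻¹ := eq_mul_inv_of_mul_eq h2
      rw [h3]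
      exact L.mul_mem b.1.1.2 (L.inv_mem a.1.1.2)
    · have h1 : (t * (a.1.1 : G), (a.1.2 : G)) = (t * (b.1.1 : G), (b.1.2 : G)) :=
        congrArg Subtype.val h
      obtain ⟨h2, h3⟩ := Prod.ext_iff.1 h1
      congr 1
      exact Subtype.ext (Prod.ext (Subtype.ext (mul_left_cancel h2)) (Subtype.ext h3))
  have hodd : Odd (orderOf (l : G)) := by
    rw [Subgroup.orderOf_coe]
    exact Nat.not_even_iff_odd.1 fun h => hl (even_iff_two_dvd.1 h)
  have hsurj : Function.Surjective F := by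
    rintro ⟨⟨u, u'⟩, hu, hu', huu⟩
    have hu : orderOf u = 2 := hu
    have hu' : orderOf u' = 2 := hu'
    have huu : u * u' = t * (l : G) := huu
    have hu2 := sq_eq_one_of_orderOf hu
    have hu2' := sq_eq_one_of_orderOf hu'
    have hui : u⁻¹ = u := by rw [inv_eq_iff_mul_eq_one]; exact hu2
    have hui' : u'⁻¹ = u' := by rw [inv_eq_iff_mul_eq_one]; exact hu2'
    -- u centralizes t
    have hut : u * t = t * u := by
      have e1 : (t * (l : G)) ^ orderOf (l : G) = t := by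
        have hc : Commute t (l : G) := hlt.symm
        rw [hc.mul_pow, pow_orderOf_eq_one, mul_one]
        obtain ⟨k, hk⟩ := hodd
        rw [hk, pow_succ, pow_mul, pow_two, ht2, one_pow, one_mul]
      have e2 : u * (t * (l : G)) * u⁻¹ = (t * (l : G))⁻¹ := by
        rw [← huu, mul_inv_rev, hui, hui']
        calc u * (u * u') * u = (u * u) * u' * u := by group
          _ = u' * u := by rw [hu2, one_mul]
      have e3 : u * t * u⁻¹ = t := by
        calc u * t * u⁻¹ = u * ((t * (l : G)) ^ orderOf (l : G)) * u⁻¹ := by rw [e1]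
          _ = (u * (t * (l : G)) * u⁻¹) ^ orderOf (l : G) := by rw [conj_pow]
          _ = ((t * (l : G)) ^ orderOf (l : G))⁻¹ := by rw [e2, inv_pow]
          _ = t := by rw [e1, ht1]
      rw [mul_inv_eq_iff_eq_mul] at e3
      exact e3
    have huC : u ∈ Subgroup.centralizer ({t} : Set G) :=
      Subgroup.mem_centralizer_singleton_iff.2 hut
    have hu'e : u' = u * (t * (l : G)) := by
      rw [← huu, ← mul_assoc, hu2, one_mul]
    rcases hcov u huC with h | h
    · -- u ∈ L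
      have h1 : t * u' = u * (l : G) := by
        rw [hu'e]
        calc t * (u * (t * (l : G))) = t * (u * t) * l := by group
          _ = (t * t) * (u * l) := by rw [hut]; group
          _ = u * l := by rw [ht2, one_mul]
      have h2 : t * u' ∈ L := by rw [h1]; exact L.mul_mem h l.2
      have h3 : (t * u') * (t * u') = 1 := by
        have hu't : u' * t = t * u' := by
          rw [hu'e]
          calc u * (t * (l : G)) * t = u * t * ((l : G) * t) := by group
            _ = u * t * (t * (l : G)) := by rw [hlt]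
            _ = (u * t) * t * l := by group
            _ = (t * u) * t * l := by rw [hut]
            _ = t * (u * (t * (l : G))) := by group
        calc (t * u') * (t * u') = t * (u' * t) * u' := by group
          _ = (t * t) * (u' * u') := by rw [hu't]; group
          _ = 1 := by rw [ht2, hu2', mul_one]
      have h4 : t * u' ≠ 1 := by
        intro h0
        rw [h1] at h0
        have h5 : (l : G) = u := by
          have := eq_inv_of_mul_eq_one_right h0
          rw [this, hui]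
        apply hl
        rw [← Subgroup.orderOf_coe, h5, hu]
      refine ⟨Sum.inl ⟨(⟨u, h⟩, ⟨t * u', h2⟩), ?_, ?_, ?_⟩, ?_⟩
      · rw [Subgroup.orderOf_mk]; exact hu
      · rw [Subgroup.orderOf_mk]; exact orderOf_eq_two h3 h4
      · apply Subtype.ext
        show u * (t * u') = (l : G)
        rw [h1, ← mul_assoc, hu2, one_mul]
      · apply Subtype.ext
        show (u, t * (t * u')) = (u, u')
        rw [← mul_assoc, ht2, one_mul]
    · -- t u ∈ L
      have h1 : u' = t * u * (l : G) := by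
        rw [hu'e, ← hut]
        group
      have h2 : u' ∈ L := by rw [h1]; exact L.mul_mem h l.2
      have h3 : (t * u) * (t * u) = 1 := by
        calc (t * u) * (t * u) = t * (u * t) * u := by group
          _ = (t * t) * (u * u) := by rw [hut]; group
          _ = 1 := by rw [ht2, hu2, mul_one]
      have h4 : t * u ≠ 1 := by
        intro h0
        rw [h1, h0, one_mul] at hu'
        apply hl
        rw [← Subgroup.orderOf_coe, hu']
      refine ⟨Sum.inr ⟨(⟨t * u, h⟩, ⟨u', h2⟩), ?_, ?_, ?_⟩, ?_⟩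
      · rw [Subgroup.orderOf_mk]; exact orderOf_eq_two h3 h4
      · rw [Subgroup.orderOf_mk]; exact hu'
      · apply Subtype.ext
        show t * u * u' = (l : G)
        rw [mul_assoc, huu, ← mul_assoc, ht2, one_mul]
      · apply Subtype.ext
        show (t * (t * u), u') = (u, u')
        rw [← mul_assoc, ht2, one_mul]
  have h := Nat.card_congr (Equiv.ofBijective F ⟨hinj, hsurj⟩)
  rw [Nat.card_sum, hA, hX] at h
  omega

end Pairs

section Scalar

variable {L : Type*} [Group L]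

/-- The number of involutions. -/
noncomputable def nInv (L : Type*) [Group L] : ℕ := Nat.card {w : L // orderOf w = 2}

theorem nInv_def : nInv L = Nat.card {w : L // orderOf w = 2} := rfl

/-- Sum over all pairs of involutions. -/
theorem sum_pairs [Finite L] {χ : L → ℂ} (hχ : IsIrrCharacter L χ) (v : ℂ)
    (hv : ∀ w : L, orderOf w = 2 → χ w = v) (S : Finset L) (hS : ∀ w, w ∈ S ↔ orderOf w = 2) :
    ∑ w ∈ S, ∑ w' ∈ S, χ (w * w') = (S.card : ℂ) ^ 2 * v ^ 2 / χ 1 := by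
  obtain ⟨n, ρ, hρ, rfl⟩ := hχ
  obtain ⟨c, hc⟩ := OddOrderCharacters.ClassSum.invariant_sum_scalar ρ hρ S (by
    intro g x hx
    rw [hS] at hx ⊢
    rw [← hx]
    exact (MulAut.conj g).orderOf_eq x)
  have h1 : ∀ y : L, ∑ w ∈ S, ρ.character (w * y) = c * ρ.character y := by
    intro y
    have h2 : ∑ w ∈ S, ρ.character (w * y) = LinearMap.trace ℂ _ ((∑ w ∈ S, ρ w) * ρ y) := by
      rw [Finset.sum_mul, map_sum]
      refine Finset.sum_congr rfl fun w _ => ?_
      rw [← map_mul]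
      rfl
    rw [h2, hc, smul_mul_assoc, one_mul, map_smul, smul_eq_mul]
    rfl
  have h0 : ρ.character 1 ≠ 0 := Core.isIrr_apply_one_ne_zero ⟨n, ρ, hρ, rfl⟩
  have h3 : (S.card : ℂ) * v = c * ρ.character 1 := by
    rw [← h1 1, Finset.sum_congr rfl (g := fun _ => v) (fun w hw => by
      rw [mul_one]; exact hv w ((hS w).1 hw)), Finset.sum_const, nsmul_eq_mul]
  rw [Finset.sum_comm]
  have h4 : ∀ w' ∈ S, ∑ w ∈ S, ρ.character (w * w') = c * v := by
    intro w' hw'
    rw [h1, hv w' ((hS w').1 hw')]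
  rw [Finset.sum_congr rfl h4, Finset.sum_const, nsmul_eq_mul]
  field_simp
  linear_combination (-((S.card : ℂ) * v)) * h3

/-- `phi` as a sum. -/
theorem sum_phi_mul [Fintype L] (f : L → ℂ) (S : Finset L) (hS : ∀ w, w ∈ S ↔ orderOf w = 2) :
    ∑ l : L, (phi l : ℂ) * f l = ∑ w ∈ S, ∑ w' ∈ S, f (w * w') := by
  classical
  have h1 : ∀ l : L, (phi l : ℂ) = ∑ w ∈ S, ∑ w' ∈ S, if w * w' = l then (1 : ℂ) else 0 := by
    intro l
    rw [phi_def, Nat.card_eq_fintype_card, Fintype.card_subtype, ← Finset.sum_product',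
      ← Finset.sum_filter, Finset.sum_const, nsmul_eq_mul, mul_one]
    congr 2
    ext x
    simp only [Finset.mem_filter, Finset.mem_univ, true_and, Finset.mem_product, hS]
    tauto
  simp only [h1, Finset.sum_mul]
  rw [Finset.sum_comm]
  refine Finset.sum_congr rfl fun w _ => ?_
  rw [Finset.sum_comm]
  refine Finset.sum_congr rfl fun w' _ => ?_
  simp

/-- Scalar product of `phi` with a signed irreducible character. -/
theorem sum_phi [Fintype L] {τ : L → ℂ} (hτ : IsIrrCharacter L τ ∨ IsIrrCharacter L (-τ))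
    (v : ℂ) (hv : ∀ w : L, orderOf w = 2 → τ w = v) :
    ∑ l : L, (phi l : ℂ) * τ l = (nInv L : ℂ) ^ 2 * v ^ 2 / τ 1 := by
  classical
  have hS : ∀ w : L, w ∈ Finset.univ.filter (fun w : L => orderOf w = 2) ↔ orderOf w = 2 := by
    intro w; simp
  have hc : ((Finset.univ.filter (fun w : L => orderOf w = 2)).card : ℂ) = nInv L := by
    rw [nInv_def, Nat.card_eq_fintype_card, Fintype.card_subtype]
  rw [sum_phi_mul τ _ hS, ← hc]
  rcases hτ with h | h
  · exact sum_pairs h v hv _ hS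
  · have h1 := sum_pairs h (-v) (fun w hw => by rw [Pi.neg_apply, hv w hw]) _ hS
    simp only [Pi.neg_apply, Finset.sum_neg_distrib, neg_sq, div_neg] at h1
    exact neg_injective h1

end Scalar

section Final

variable {G : Type*} [Group G] [Finite G] {t : G} {L : Subgroup G}

theorem card_centralizer (hL : L ≤ Subgroup.centralizer ({t} : Set G)) (htL : t ∉ L)
    (ht : t * t = 1)
    (hcov : ∀ g ∈ Subgroup.centralizer ({t} : Set G), g ∈ L ∨ t * g ∈ L) :
    Nat.card (Subgroup.centralizer ({t} : Set G)) = 2 * Nat.card L := by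
  have htC : t ∈ Subgroup.centralizer ({t} : Set G) :=
    Subgroup.mem_centralizer_singleton_iff.2 rfl
  let F : L ⊕ L → Subgroup.centralizer ({t} : Set G) := Sum.elim
    (fun a => ⟨a, hL a.2⟩) (fun a => ⟨t * a, Subgroup.mul_mem _ htC (hL a.2)⟩)
  have hinj : Function.Injective F := by
    rintro (a | a) (b | b) h
    · have h1 : (a : G) = b := congrArg (fun x : Subgroup.centralizer ({t} : Set G) => (x : G)) h
      congr 1
      exact Subtype.ext h1
    · exfalso
      have h1 : (a : G) = t * b := congrArg (fun x : Subgroup.centralizer ({t} : Set G) => (x : G)) h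
      apply htL
      rw [eq_mul_inv_of_mul_eq h1.symm]
      exact L.mul_mem a.2 (L.inv_mem b.2)
    · exfalso
      have h1 : t * (a : G) = b :=
        congrArg (fun x : Subgroup.centralizer ({t} : Set G) => (x : G)) h
      apply htL
      rw [eq_mul_inv_of_mul_eq h1]
      exact L.mul_mem b.2 (L.inv_mem a.2)
    · have h1 : t * (a : G) = t * b :=
        congrArg (fun x : Subgroup.centralizer ({t} : Set G) => (x : G)) h
      congr 1
      exact Subtype.ext (mul_left_cancel h1)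
  have hsurj : Function.Surjective F := by
    rintro ⟨g, hg⟩
    rcases hcov g hg with h | h
    · exact ⟨Sum.inl ⟨g, h⟩, rfl⟩
    · refine ⟨Sum.inr ⟨t * g, h⟩, Subtype.ext ?_⟩
      show t * (t * g) = g
      rw [← mul_assoc, ht, one_mul]
  have h := Nat.card_congr (Equiv.ofBijective F ⟨hinj, hsurj⟩)
  rw [Nat.card_sum] at h
  omega

/-- The class equation for the section of `t`. -/
theorem class_r_complex [Fintype (IrrCharacter G)] [Fintype L]
    (hconj : ∀ u v : G, orderOf u = 2 → orderOf v = 2 → IsConj u v) (ht : orderOf t = 2)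
    (hL : L ≤ Subgroup.centralizer ({t} : Set G)) (htL : t ∉ L)
    (hcov : ∀ g ∈ Subgroup.centralizer ({t} : Set G), g ∈ L ∨ t * g ∈ L)
    {τ : L → ℂ} (hτ : IsIrrCharacter L τ ∨ IsIrrCharacter L (-τ))
    (hτ2 : ∀ l : L, 2 ∣ orderOf l → τ l = 1) (r : IrrCharacter G → ℂ)
    (hr : ∀ χ, r χ = (Nat.card L : ℂ)⁻¹ * ∑ l : L, (χ : G → ℂ) (t * (l : G)) * conj (τ l - 1)) :
    ∑ χ : IrrCharacter G, r χ * (χ : G → ℂ) t ^ 2 / (χ : G → ℂ) 1 =
      8 * (Nat.card L : ℂ) * (nInv L : ℂ) ^ 2 / (Nat.card G : ℂ) * (1 / conj (τ 1) - 1) := by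
  have ht2 := sq_eq_one_of_orderOf ht
  have hL0 : (Nat.card L : ℂ) ≠ 0 := Core.card_ne_zero_complex
  have hG0 : (Nat.card G : ℂ) ≠ 0 := Core.card_ne_zero_complex
  have hC := card_centralizer hL htL ht2 hcov
  have h1 : ∀ l : L, ∑ χ : IrrCharacter G, (χ : G → ℂ) (t * (l : G)) * (χ : G → ℂ) t ^ 2 /
      (χ : G → ℂ) 1 * conj (τ l - 1) =
      (8 * (Nat.card L : ℂ) ^ 2 / (Nat.card G : ℂ)) * ((phi l : ℂ) * conj (τ l - 1)) := by
    intro l
    rw [← Finset.sum_mul, sum_class hconj ht, hC]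
    by_cases hl : 2 ∣ orderOf l
    · rw [hτ2 l hl]
      simp
    · rw [phi_mul ht hL htL hcov l hl]
      push_cast
      ring
  have h2 : ∑ χ : IrrCharacter G, r χ * (χ : G → ℂ) t ^ 2 / (χ : G → ℂ) 1 =
      (Nat.card L : ℂ)⁻¹ * ∑ l : L, ∑ χ : IrrCharacter G, (χ : G → ℂ) (t * (l : G)) *
        (χ : G → ℂ) t ^ 2 / (χ : G → ℂ) 1 * conj (τ l - 1) := by
    rw [Finset.sum_comm, Finset.mul_sum]
    refine Finset.sum_congr rfl fun χ _ => ?_
    rw [hr χ, mul_assoc, Finset.sum_mul, mul_div_assoc, Finset.sum_div]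
    congr 1
    refine Finset.sum_congr rfl fun l _ => ?_
    ring
  rw [h2, Finset.sum_congr rfl fun l _ => h1 l, ← Finset.mul_sum]
  have h3 : ∑ l : L, (phi l : ℂ) * conj (τ l - 1) =
      conj (∑ l : L, (phi l : ℂ) * τ l) - conj (∑ l : L, (phi l : ℂ) * (1 : L → ℂ) l) := by
    rw [← map_sub, ← Finset.sum_sub_distrib, map_sum]
    refine Finset.sum_congr rfl fun l _ => ?_
    simp only [map_sub, map_mul, Complex.conj_natCast, map_one, Pi.one_apply]
    ring
  rw [h3, sum_phi hτ 1 (fun w hw => hτ2 w (by rw [hw])),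
    sum_phi (Or.inl Core.isIrr_one) 1 (fun w _ => rfl)]
  simp only [map_div₀, map_mul, map_pow, Complex.conj_natCast, map_one, Pi.one_apply]
  field_simp

/-- The class equation, with complex conjugates. -/
theorem sum_class_conj [Fintype (IrrCharacter G)]
    (hconj : ∀ u v : G, orderOf u = 2 → orderOf v = 2 → IsConj u v) (ht : orderOf t = 2)
    (g : G) :
    ∑ χ : IrrCharacter G, conj ((χ : G → ℂ) g) * (χ : G → ℂ) t ^ 2 / (χ : G → ℂ) 1 =
      (phi g : ℂ) * (Nat.card (Subgroup.centralizer ({t} : Set G)) : ℂ) ^ 2 / (Nat.card G : ℂ) := by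
  have h1 := congrArg conj (sum_class hconj ht g)
  have ht1 : t⁻¹ = t := by rw [inv_eq_iff_mul_eq_one]; exact sq_eq_one_of_orderOf ht
  have h4 : ∀ χ : IrrCharacter G, conj ((χ : G → ℂ) t) = (χ : G → ℂ) t := fun χ => by
    rw [← Core.isCharacter_apply_inv (Core.isIrr_isCharacter χ.2) t, ht1]
  have h5 : ∀ χ : IrrCharacter G, conj ((χ : G → ℂ) 1) = (χ : G → ℂ) 1 := fun χ => by
    rw [← Core.isCharacter_apply_inv (Core.isIrr_isCharacter χ.2) 1, inv_one]
  simp only [map_mul, map_div₀, map_sum, map_pow, Complex.conj_natCast, h4, h5] at h1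
  exact h1

/-- The class equation for a general function on `L` vanishing on the elements of even order
(in the form `|L|⁻¹ ∑ a(l) conj χ(t l)` of the coefficients). -/
theorem class_vec [Fintype (IrrCharacter G)] [Fintype L]
    (hconj : ∀ u v : G, orderOf u = 2 → orderOf v = 2 → IsConj u v) (ht : orderOf t = 2)
    (hL : L ≤ Subgroup.centralizer ({t} : Set G)) (htL : t ∉ L)
    (hcov : ∀ g ∈ Subgroup.centralizer ({t} : Set G), g ∈ L ∨ t * g ∈ L)
    (a : L → ℂ) (ha : ∀ l : L, 2 ∣ orderOf l → a l = 0) (r : IrrCharacter G → ℂ)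
    (hr : ∀ χ, r χ = (Nat.card L : ℂ)⁻¹ * ∑ l : L, a l * conj ((χ : G → ℂ) (t * (l : G)))) :
    ∑ χ : IrrCharacter G, r χ * ((χ : G → ℂ) t ^ 2 / (χ : G → ℂ) 1) =
      8 * (Nat.card L : ℂ) / (Nat.card G : ℂ) * ∑ l : L, a l * (phi l : ℂ) := by
  have ht2 := sq_eq_one_of_orderOf ht
  have hL0 : (Nat.card L : ℂ) ≠ 0 := Core.card_ne_zero_complex
  have hC := card_centralizer hL htL ht2 hcov
  have h1 : ∀ l : L, ∑ χ : IrrCharacter G, conj ((χ : G → ℂ) (t * (l : G))) * (χ : G → ℂ) t ^ 2 /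
      (χ : G → ℂ) 1 * a l =
      (8 * (Nat.card L : ℂ) ^ 2 / (Nat.card G : ℂ)) * (a l * (phi l : ℂ)) := by
    intro l
    rw [← Finset.sum_mul, sum_class_conj hconj ht, hC]
    by_cases hl : 2 ∣ orderOf l
    · rw [ha l hl]
      simp
    · rw [phi_mul ht hL htL hcov l hl]
      push_cast
      ring
  have h2 : ∑ χ : IrrCharacter G, r χ * ((χ : G → ℂ) t ^ 2 / (χ : G → ℂ) 1) =
      (Nat.card L : ℂ)⁻¹ * ∑ l : L, ∑ χ : IrrCharacter G,
        conj ((χ : G → ℂ) (t * (l : G))) * (χ : G → ℂ) t ^ 2 / (χ : G → ℂ) 1 * a l := by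
    rw [Finset.sum_comm, Finset.mul_sum]
    refine Finset.sum_congr rfl fun χ _ => ?_
    rw [hr χ, mul_assoc, Finset.sum_mul]
    congr 1
    refine Finset.sum_congr rfl fun l _ => ?_
    ring
  rw [h2, Finset.sum_congr rfl fun l _ => h1 l, ← Finset.mul_sum]
  field_simp

/-- The class equations for functions supported on a set where `phi` is constant. -/
theorem class_ab_complex [Fintype (IrrCharacter G)] {V Y : Subgroup G} [Fintype V] [Fintype Y]
    (hconj : ∀ u v : G, orderOf u = 2 → orderOf v = 2 → IsConj u v) (ht : orderOf t = 2)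
    (hL : L ≤ Subgroup.centralizer ({t} : Set G)) (htL : t ∉ L)
    (hcov : ∀ g ∈ Subgroup.centralizer ({t} : Set G), g ∈ L ∨ t * g ∈ L)
    {N : ℕ} (hN : ∀ v ∈ V, ∀ y ∈ Y, y ≠ 1 → phi (v * y) = N)
    (f : V → ℂ) (h : Y → ℂ) (hh : h 1 = 0) (c : ℂ) (a : IrrCharacter G → ℂ)
    (ha : ∀ χ, a χ = c * ∑ v : V, ∑ y : Y, (χ : G → ℂ) ((v : G) * (y : G)) * (f v * h y)) :
    ∑ χ : IrrCharacter G, a χ * (χ : G → ℂ) t ^ 2 / (χ : G → ℂ) 1 =
      c * (4 * (N : ℂ) * (Nat.card L : ℂ) ^ 2 / (Nat.card G : ℂ)) *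
        ((∑ v : V, f v) * ∑ y : Y, h y) := by
  have ht2 := sq_eq_one_of_orderOf ht
  have hC := card_centralizer hL htL ht2 hcov
  have h1 : ∀ (v : V) (y : Y), ∑ χ : IrrCharacter G, (χ : G → ℂ) ((v : G) * (y : G)) *
      (χ : G → ℂ) t ^ 2 / (χ : G → ℂ) 1 * (f v * h y) =
      (4 * (N : ℂ) * (Nat.card L : ℂ) ^ 2 / (Nat.card G : ℂ)) * (f v * h y) := by
    intro v y
    rw [← Finset.sum_mul, sum_class hconj ht, hC]
    by_cases hy : y = 1
    · rw [hy, hh]
      simp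
    · rw [hN v v.2 y y.2 (fun h0 => hy (Subtype.ext h0))]
      push_cast
      ring
  have h2 : ∑ χ : IrrCharacter G, a χ * (χ : G → ℂ) t ^ 2 / (χ : G → ℂ) 1 =
      c * ∑ v : V, ∑ y : Y, ∑ χ : IrrCharacter G, (χ : G → ℂ) ((v : G) * (y : G)) *
        (χ : G → ℂ) t ^ 2 / (χ : G → ℂ) 1 * (f v * h y) := by
    have h3 : ∀ χ : IrrCharacter G, a χ * (χ : G → ℂ) t ^ 2 / (χ : G → ℂ) 1 =
        c * ∑ v : V, ∑ y : Y, (χ : G → ℂ) ((v : G) * (y : G)) *
        (χ : G → ℂ) t ^ 2 / (χ : G → ℂ) 1 * (f v * h y) := by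
      intro χ
      rw [ha χ, mul_assoc, mul_div_assoc, Finset.sum_mul, Finset.sum_div]
      congr 1
      refine Finset.sum_congr rfl fun v _ => ?_
      rw [Finset.sum_mul, Finset.sum_div]
      refine Finset.sum_congr rfl fun y _ => ?_
      ring
    rw [Finset.sum_congr rfl fun χ _ => h3 χ, ← Finset.mul_sum, Finset.sum_comm]
    congr 1
    refine Finset.sum_congr rfl fun v _ => ?_
    rw [Finset.sum_comm]
  rw [h2, Finset.sum_congr rfl fun v _ => Finset.sum_congr rfl fun y _ => h1 v y]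
  rw [Finset.sum_mul_sum]
  simp only [Finset.mul_sum]
  refine Finset.sum_congr rfl fun v _ => Finset.sum_congr rfl fun y _ => ?_
  ring

/-- The numerical facts used to evaluate the class equations. -/
structure NumHyp (Q : ℤ) (m cL n : ℕ) : Prop where
  Q_ne : Q ≠ 0
  Q_ne_one : Q ≠ 1
  Q_ne_neg : Q ≠ -1
  m_pos : 0 < m
  card_L : 2 * (cL : ℤ) = |Q| * (Q ^ 2 - 1)
  n_eq : n * (4 * m) = cL
  m_eq : 4 * (m : ℤ) * Q = |Q| * (Q - 1)

theorem kappa_eq {Q : ℤ} {m cL n : ℕ} (h : NumHyp Q m cL n) (g : ℕ) :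
    8 * (cL : ℚ) * (n : ℚ) ^ 2 / (g : ℚ) = Interface.kappa Q g := by
  have hQ : (Q : ℚ) ≠ 0 := by exact_mod_cast h.Q_ne
  have hQ1 : (Q : ℚ) - 1 ≠ 0 := sub_ne_zero.2 (by exact_mod_cast h.Q_ne_one)
  have hm : (m : ℚ) ≠ 0 := by exact_mod_cast h.m_pos.ne'
  have e1 : 2 * (cL : ℚ) = |(Q : ℚ)| * ((Q : ℚ) ^ 2 - 1) := by exact_mod_cast h.card_L
  have e2 : (n : ℚ) * (4 * m) = cL := by exact_mod_cast h.n_eq
  have e3 : 4 * (m : ℚ) * Q = |(Q : ℚ)| * ((Q : ℚ) - 1) := by exact_mod_cast h.m_eq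
  have ha : |(Q : ℚ)| ^ 2 = (Q : ℚ) ^ 2 := sq_abs _
  have e4 : 16 * (m : ℚ) ^ 2 = ((Q : ℚ) - 1) ^ 2 := by
    have h1 : (16 * (m : ℚ) ^ 2) * (Q : ℚ) ^ 2 = ((Q : ℚ) - 1) ^ 2 * (Q : ℚ) ^ 2 := by
      have h2 := congrArg (fun z => z ^ 2) e3
      simp only [mul_pow] at h2
      rw [ha] at h2
      linear_combination h2
    exact mul_right_cancel₀ (pow_ne_zero 2 hQ) h1
  have e5 : 8 * (cL : ℚ) * (n : ℚ) ^ 2 = |(Q : ℚ)| ^ 3 * ((Q : ℚ) - 1) * ((Q : ℚ) + 1) ^ 3 := by
    have h1 : 8 * (cL : ℚ) * (n : ℚ) ^ 2 * ((Q : ℚ) - 1) ^ 2 =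
        |(Q : ℚ)| ^ 3 * ((Q : ℚ) - 1) * ((Q : ℚ) + 1) ^ 3 * ((Q : ℚ) - 1) ^ 2 := by
      have h2 : 8 * (cL : ℚ) * (n : ℚ) ^ 2 * ((Q : ℚ) - 1) ^ 2 = (2 * (cL : ℚ)) ^ 3 := by
        rw [← e4]
        calc 8 * (cL : ℚ) * (n : ℚ) ^ 2 * (16 * (m : ℚ) ^ 2)
            = 8 * (cL : ℚ) * ((n : ℚ) * (4 * m)) ^ 2 := by ring
          _ = (2 * (cL : ℚ)) ^ 3 := by rw [e2]; ring
      rw [h2, e1]
      ring
    exact mul_right_cancel₀ (pow_ne_zero 2 hQ1) h1
  show 8 * (cL : ℚ) * (n : ℚ) ^ 2 / (g : ℚ) =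
    |(Q : ℚ)| ^ 3 * ((Q : ℚ) - 1) * ((Q : ℚ) + 1) ^ 3 / (g : ℚ)
  rw [e5]

theorem kappa_eq' {Q : ℤ} {m cL n : ℕ} (h : NumHyp Q m cL n) (g : ℕ) :
    16 * (m : ℚ) * (cL : ℚ) ^ 2 / (g : ℚ) =
      Interface.kappa Q g * (((Q : ℚ) - 1) ^ 2 / ((Q : ℚ) * ((Q : ℚ) + 1))) := by
  have hQ : (Q : ℚ) ≠ 0 := by exact_mod_cast h.Q_ne
  have hQ1 : (Q : ℚ) + 1 ≠ 0 := by
    intro h0
    apply h.Q_ne_neg
    have : (Q : ℚ) = ((-1 : ℤ) : ℚ) := by push_cast; linarith
    exact_mod_cast this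
  have e1 : 2 * (cL : ℚ) = |(Q : ℚ)| * ((Q : ℚ) ^ 2 - 1) := by exact_mod_cast h.card_L
  have e3 : 4 * (m : ℚ) * Q = |(Q : ℚ)| * ((Q : ℚ) - 1) := by exact_mod_cast h.m_eq
  show 16 * (m : ℚ) * (cL : ℚ) ^ 2 / (g : ℚ) =
    |(Q : ℚ)| ^ 3 * ((Q : ℚ) - 1) * ((Q : ℚ) + 1) ^ 3 / (g : ℚ) *
      (((Q : ℚ) - 1) ^ 2 / ((Q : ℚ) * ((Q : ℚ) + 1)))
  have e4 : 16 * (m : ℚ) * (cL : ℚ) ^ 2 * (Q * (Q + 1)) =
      |(Q : ℚ)| ^ 3 * ((Q : ℚ) - 1) * ((Q : ℚ) + 1) ^ 3 * ((Q : ℚ) - 1) ^ 2 := by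
    calc 16 * (m : ℚ) * (cL : ℚ) ^ 2 * (Q * (Q + 1)) = (4 * (m : ℚ) * Q) * (2 * (cL : ℚ)) ^ 2 * (Q + 1) := by
          ring
      _ = _ := by rw [e1, e3]; ring
  rw [div_mul_div_comm, ← e4]
  by_cases hg : (g : ℚ) = 0
  · rw [hg]; simp
  · field_simp

/-- **Class equations** `class0`, `class1`, `class2`. -/
theorem class_r [Fintype (IrrCharacter G)] [Fintype L]
    (hconj : ∀ u v : G, orderOf u = 2 → orderOf v = 2 → IsConj u v) (ht : orderOf t = 2)
    (hL : L ≤ Subgroup.centralizer ({t} : Set G)) (htL : t ∉ L)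
    (hcov : ∀ g ∈ Subgroup.centralizer ({t} : Set G), g ∈ L ∨ t * g ∈ L)
    {τ : L → ℂ} (hτ : IsIrrCharacter L τ ∨ IsIrrCharacter L (-τ))
    (hτ2 : ∀ l : L, 2 ∣ orderOf l → τ l = 1) {c : ℚ} (hc : τ 1 = (c : ℂ))
    {r val deg : IrrCharacter G → ℤ} (hval : ∀ χ : IrrCharacter G, (χ : G → ℂ) t = (val χ : ℂ))
    (hdeg : ∀ χ : IrrCharacter G, (χ : G → ℂ) 1 = (deg χ : ℂ))
    (hr : ∀ χ, (r χ : ℂ) =
      (Nat.card L : ℂ)⁻¹ * ∑ l : L, (χ : G → ℂ) (t * (l : G)) * conj (τ l - 1))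
    {Q : ℤ} {m : ℕ} (hQ : NumHyp Q m (Nat.card L) (nInv L)) :
    ∑ χ : IrrCharacter G, (r χ : ℚ) * (val χ : ℚ) ^ 2 / (deg χ : ℚ) =
      Interface.kappa Q (Nat.card G) * (1 / c - 1) := by
  have h1 := class_r_complex hconj ht hL htL hcov hτ hτ2 (fun χ => (r χ : ℂ)) hr
  simp only [hval, hdeg] at h1
  rw [hc] at h1
  rw [← kappa_eq hQ (Nat.card G)]
  have h2 : ((∑ χ : IrrCharacter G, (r χ : ℚ) * (val χ : ℚ) ^ 2 / (deg χ : ℚ) : ℚ) : ℂ) =
      ((8 * (Nat.card L : ℚ) * (nInv L : ℚ) ^ 2 / (Nat.card G : ℚ) * (1 / c - 1) : ℚ) : ℂ) := by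
    push_cast
    rw [h1]
    simp
  exact_mod_cast h2

/-- **Class equation** `a_class`. -/
theorem class_a [Fintype (IrrCharacter G)] {V Y : Subgroup G} [Fintype V] [Fintype Y]
    (hconj : ∀ u v : G, orderOf u = 2 → orderOf v = 2 → IsConj u v) (ht : orderOf t = 2)
    (hL : L ≤ Subgroup.centralizer ({t} : Set G)) (htL : t ∉ L)
    (hcov : ∀ g ∈ Subgroup.centralizer ({t} : Set G), g ∈ L ∨ t * g ∈ L)
    {m : ℕ} (hm : 0 < m) (hV : Nat.card V = 4) (hY : Nat.card Y = m)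
    (hN : ∀ v ∈ V, ∀ y ∈ Y, y ≠ 1 → phi (v * y) = 4 * m)
    (θ : Y →* ℂ) (hθ : θ ≠ 1) {a val deg : IrrCharacter G → ℤ}
    (hval : ∀ χ : IrrCharacter G, (χ : G → ℂ) t = (val χ : ℂ)) (hdeg : ∀ χ : IrrCharacter G, (χ : G → ℂ) 1 = (deg χ : ℂ))
    (ha : ∀ χ, (a χ : ℂ) = (4 * (m : ℂ))⁻¹ *
      ∑ v : V, ∑ y : Y, (χ : G → ℂ) ((v : G) * (y : G)) * (1 - conj (θ y)))
    {Q : ℤ} {n : ℕ} (hQ : NumHyp Q m (Nat.card L) n) :
    ∑ χ : IrrCharacter G, (a χ : ℚ) * (val χ : ℚ) ^ 2 / (deg χ : ℚ) =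
      Interface.kappa Q (Nat.card G) * (((Q : ℚ) - 1) ^ 2 / ((Q : ℚ) * ((Q : ℚ) + 1))) := by
  have h1 := class_ab_complex hconj ht hL htL hcov hN (fun _ => 1) (fun y => 1 - conj (θ y))
    (by simp) (4 * (m : ℂ))⁻¹ (fun χ => (a χ : ℂ)) (fun χ => by rw [ha χ]; simp)
  simp only [hval, hdeg] at h1
  have h3 : ∑ y : Y, (1 - conj (θ y)) = (m : ℂ) := by
    rw [Finset.sum_sub_distrib, ← map_sum, sum_hom_units_eq_zero θ hθ, map_zero, sub_zero,
      Finset.sum_const, Finset.card_univ, ← Nat.card_eq_fintype_card, hY, nsmul_eq_mul, mul_one]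
  have h4 : ∑ _v : V, (1 : ℂ) = 4 := by
    rw [Finset.sum_const, Finset.card_univ, ← Nat.card_eq_fintype_card, hV, nsmul_eq_mul, mul_one]
    norm_num
  rw [h3, h4] at h1
  rw [← kappa_eq' hQ (Nat.card G)]
  have hm0 : (m : ℂ) ≠ 0 := by exact_mod_cast hm.ne'
  have h2 : ((∑ χ : IrrCharacter G, (a χ : ℚ) * (val χ : ℚ) ^ 2 / (deg χ : ℚ) : ℚ) : ℂ) =
      ((16 * (m : ℚ) * (Nat.card L : ℚ) ^ 2 / (Nat.card G : ℚ) : ℚ) : ℂ) := by
    push_cast
    rw [h1]
    push_cast
    field_simp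
    ring
  exact_mod_cast h2

/-- **Class equation** `b_class`. -/
theorem class_b [Fintype (IrrCharacter G)] {V Y : Subgroup G} [Fintype V] [Fintype Y]
    (hconj : ∀ u v : G, orderOf u = 2 → orderOf v = 2 → IsConj u v) (ht : orderOf t = 2)
    (hL : L ≤ Subgroup.centralizer ({t} : Set G)) (htL : t ∉ L)
    (hcov : ∀ g ∈ Subgroup.centralizer ({t} : Set G), g ∈ L ∨ t * g ∈ L)
    {m : ℕ} (hN : ∀ v ∈ V, ∀ y ∈ Y, y ≠ 1 → phi (v * y) = 4 * m)
    (θ : Y →* ℂ) (ψ : V →* ℂ) (hψ : ψ ≠ 1) {b val deg : IrrCharacter G → ℤ}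
    (hval : ∀ χ : IrrCharacter G, (χ : G → ℂ) t = (val χ : ℂ)) (hdeg : ∀ χ : IrrCharacter G, (χ : G → ℂ) 1 = (deg χ : ℂ))
    (hb : ∀ χ, (b χ : ℂ) = (4 * (m : ℂ))⁻¹ *
      ∑ v : V, ∑ y : Y, (χ : G → ℂ) ((v : G) * (y : G)) * (conj (ψ v) * (1 - conj (θ y)))) :
    ∑ χ : IrrCharacter G, (b χ : ℚ) * (val χ : ℚ) ^ 2 / (deg χ : ℚ) = 0 := by
  have h1 := class_ab_complex hconj ht hL htL hcov hN (fun v => conj (ψ v))
    (fun y => 1 - conj (θ y)) (by simp) (4 * (m : ℂ))⁻¹ (fun χ => (b χ : ℂ)) hb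
  simp only [hval, hdeg] at h1
  have h4 : ∑ v : V, conj (ψ v) = 0 := by
    rw [← map_sum, sum_hom_units_eq_zero ψ hψ, map_zero]
  rw [h4, zero_mul, mul_zero] at h1
  have h2 : ((∑ χ : IrrCharacter G, (b χ : ℚ) * (val χ : ℚ) ^ 2 / (deg χ : ℚ) : ℚ) : ℂ) =
      ((0 : ℚ) : ℂ) := by
    push_cast
    exact h1
  exact_mod_cast h2

end Final

end Cfsg.Agent.Ree.ClassSum
end
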