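import Mathlib
import Cfsg.Agent.Ree.Interface
set_option linter.all false

/-!
# S0343, local part: the TI property of `V Y ∖ V` and the number of pairs of involutions

`V` is an elementary abelian `2`-group centralising the odd commutative group `Y`, `C(y) = V Y` for `1 ≠ y ∈ Y`, and
an involution `s` centralises `V` and inverts `Y`.
-/

set_option autoImplicit false

namespace Cfsg.Agent.Ree.LocalFinal

open Subgroup

variable {G : Type*} [Group G]

/-- Elements of `V ⊔ Y` when `Y` centralises `V`. -/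
theorem mem_sup_iff {V Y : Subgroup G} (hYV : Y ≤ centralizer (V : Set G)) {x : G} :
    x ∈ V ⊔ Y ↔ ∃ v ∈ V, ∃ y ∈ Y, x = v * y := by
  have hcomm : ∀ v ∈ V, ∀ y ∈ Y, v * y = y * v := fun v hv y hy => mem_centralizer_iff.1 (hYV hy) v hv
  constructor
  · intro hx
    let K : Subgroup G :=
      { carrier := {x | ∃ v ∈ V, ∃ y ∈ Y, x = v * y}
        one_mem' := ⟨1, one_mem _, 1, one_mem _, by simp⟩
        mul_mem' := by
          rintro _ _ ⟨v, hv, y, hy, rfl⟩ ⟨v', hv', y', hy', rfl⟩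
          refine ⟨v * v', mul_mem hv hv', y * y', mul_mem hy hy', ?_⟩
          calc v * y * (v' * y') = v * (y * v') * y' := by simp only [mul_assoc]
            _ = v * (v' * y) * y' := by rw [hcomm v' hv' y hy]
            _ = _ := by simp only [mul_assoc]
        inv_mem' := by
          rintro _ ⟨v, hv, y, hy, rfl⟩
          refine ⟨v⁻¹, inv_mem hv, y⁻¹, inv_mem hy, ?_⟩
          rw [hcomm v hv y hy, mul_inv_rev] }
    have hle : V ⊔ Y ≤ K := by
      apply sup_le
      · intro v hv; exact ⟨v, hv, 1, one_mem _, by simp⟩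
      · intro y hy; exact ⟨1, one_mem _, y, hy, by simp⟩
    exact hle hx
  · rintro ⟨v, hv, y, hy, rfl⟩
    exact mul_mem (mem_sup_left hv) (mem_sup_right hy)

theorem odd_eq_one {Y : Subgroup G} (hodd : Odd (Nat.card Y)) {y : G} (hy : y ∈ Y) (h : y * y = 1) : y = 1 := by
  obtain ⟨k, hk⟩ := hodd
  have h1 : (⟨y, hy⟩ : Y) ^ Nat.card Y = 1 := pow_card_eq_one'
  have h2 : y ^ Nat.card Y = 1 := by
    have := congrArg Subtype.val h1
    rwa [SubmonoidClass.coe_pow] at this
  rw [hk, pow_succ, pow_mul, pow_two, h, one_pow, one_mul] at h2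
  exact h2

theorem card_sup {V Y : Subgroup G} [Finite G] (hYV : Y ≤ centralizer (V : Set G)) (hV : ∀ v ∈ V, v * v = 1)
    (hodd : Odd (Nat.card Y)) : Nat.card (V ⊔ Y : Subgroup G) = Nat.card V * Nat.card Y := by
  rw [← Nat.card_prod]
  refine (Nat.card_congr (Equiv.ofBijective
    (fun p : V × Y => (⟨p.1 * p.2, mul_mem (mem_sup_left p.1.2) (mem_sup_right p.2.2)⟩ : (V ⊔ Y : Subgroup G)))
    ⟨?_, ?_⟩)).symm
  · rintro ⟨v, y⟩ ⟨v', y'⟩ h
    have h1 : (v : G) * y = v' * y' := congrArg Subtype.val h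
    have h2 : (y : G) * (y' : G)⁻¹ = (v : G)⁻¹ * v' := by
      rw [eq_inv_mul_iff_mul_eq, ← mul_assoc, h1, mul_inv_cancel_right]
    have h3 : (y : G) * (y' : G)⁻¹ = 1 := by
      apply odd_eq_one hodd (mul_mem y.2 (inv_mem y'.2))
      rw [h2]
      exact hV _ (mul_mem (inv_mem v.2) v'.2)
    have h4 : (y : G) = y' := mul_inv_eq_one.1 h3
    rw [h3] at h2
    have h5 : (v : G) = v' := (inv_mul_eq_one.1 h2.symm)
    exact Prod.ext (Subtype.ext h5) (Subtype.ext h4)
  · rintro ⟨x, hx⟩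
    obtain ⟨v, hv, y, hy, rfl⟩ := (mem_sup_iff hYV).1 hx
    exact ⟨(⟨v, hv⟩, ⟨y, hy⟩), rfl⟩

/-- `V` is the set of elements of `V Y` with square `1`. -/
theorem mem_V_of_sq {V Y : Subgroup G} (hYV : Y ≤ centralizer (V : Set G)) (hV : ∀ v ∈ V, v * v = 1)
    (hodd : Odd (Nat.card Y)) {x : G} (hx : x ∈ V ⊔ Y) (hsq : x * x = 1) : x ∈ V := by
  obtain ⟨v, hv, y, hy, rfl⟩ := (mem_sup_iff hYV).1 hx
  have hc : v * y = y * v := mem_centralizer_iff.1 (hYV hy) v hv
  have h1 : y * y = 1 := by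
    calc y * y = (v * v) * (y * y) := by rw [hV v hv, one_mul]
      _ = v * (v * y) * y := by simp only [mul_assoc]
      _ = v * (y * v) * y := by rw [hc]
      _ = (v * y) * (v * y) := by simp only [mul_assoc]
      _ = 1 := hsq
  rw [odd_eq_one hodd hy h1, mul_one]
  exact hv

theorem sq_eq {V Y : Subgroup G} (hYV : Y ≤ centralizer (V : Set G)) (hV : ∀ v ∈ V, v * v = 1)
    {v y : G} (hv : v ∈ V) (hy : y ∈ Y) : (v * y) * (v * y) = y * y := by
  have hc : v * y = y * v := mem_centralizer_iff.1 (hYV hy) v hv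
  calc (v * y) * (v * y) = v * (y * v) * y := by simp only [mul_assoc]
    _ = v * (v * y) * y := by rw [hc]
    _ = (v * v) * (y * y) := by simp only [mul_assoc]
    _ = y * y := by rw [hV v hv, one_mul]

/-- `V Y ∖ V` is a TI set with normaliser `N(V)`. -/
theorem ti_of {V Y : Subgroup G} (hYV : Y ≤ centralizer (V : Set G)) (hV : ∀ v ∈ V, v * v = 1)
    (hodd : Odd (Nat.card Y)) (cent_y : ∀ y ∈ Y, y ≠ 1 → centralizer ({y} : Set G) = V ⊔ Y) :
    ∀ v ∈ V, ∀ y ∈ Y, y ≠ 1 → ∀ g : G, g * (v * y) * g⁻¹ ∈ V ⊔ Y → g ∈ normalizer (V : Set G) := by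
  intro v hv y hy hy1 g hg
  obtain ⟨v', hv', y', hy', he⟩ := (mem_sup_iff hYV).1 hg
  have hz1 : y * y ≠ 1 := fun h => hy1 (odd_eq_one hodd hy h)
  have hz : g * (y * y) * g⁻¹ = y' * y' := by
    rw [← sq_eq hYV hV hv' hy', ← he, ← sq_eq hYV hV hv hy]
    simp only [mul_assoc, inv_mul_cancel_left]
  have hz' : y' * y' ≠ 1 := by
    rw [← hz]
    intro h
    apply hz1
    rw [mul_inv_eq_one] at h
    exact mul_left_cancel (h.trans (mul_one g).symm)
  have c1 := cent_y _ (mul_mem hy hy) hz1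
  have c2 := cent_y _ (mul_mem hy' hy') hz'
  have key : ∀ x : G, x ∈ V ⊔ Y ↔ g * x * g⁻¹ ∈ V ⊔ Y := by
    intro x
    rw [show (x ∈ V ⊔ Y ↔ g * x * g⁻¹ ∈ V ⊔ Y) ↔
      (x ∈ centralizer ({y * y} : Set G) ↔ g * x * g⁻¹ ∈ centralizer ({y' * y'} : Set G)) by rw [c1, c2]]
    rw [mem_centralizer_singleton_iff, mem_centralizer_singleton_iff, ← hz]
    generalize y * y = z
    constructor
    · intro h
      calc g * x * g⁻¹ * (g * z * g⁻¹) = g * (x * z) * g⁻¹ := by simp only [mul_assoc, inv_mul_cancel_left]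
        _ = g * (z * x) * g⁻¹ := by rw [h]
        _ = g * z * g⁻¹ * (g * x * g⁻¹) := by simp only [mul_assoc, inv_mul_cancel_left]
    · intro h
      have h2 : g * (x * z) * g⁻¹ = g * (z * x) * g⁻¹ := by
        calc g * (x * z) * g⁻¹ = g * x * g⁻¹ * (g * z * g⁻¹) := by simp only [mul_assoc, inv_mul_cancel_left]
          _ = g * z * g⁻¹ * (g * x * g⁻¹) := h
          _ = g * (z * x) * g⁻¹ := by simp only [mul_assoc, inv_mul_cancel_left]
      exact mul_left_cancel (mul_right_cancel h2)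
  have hsq : ∀ x : G, x * x = 1 ↔ (g * x * g⁻¹) * (g * x * g⁻¹) = 1 := by
    intro x
    have : (g * x * g⁻¹) * (g * x * g⁻¹) = g * (x * x) * g⁻¹ := by
      simp only [mul_assoc, inv_mul_cancel_left]
    rw [this, mul_inv_eq_one]
    constructor
    · intro h; rw [h, mul_one]
    · intro h; exact mul_left_cancel (h.trans (mul_one g).symm)
  rw [mem_normalizer_iff]
  intro x
  constructor
  · intro hx
    exact mem_V_of_sq hYV hV hodd ((key x).1 (mem_sup_left hx)) ((hsq x).1 (hV x hx))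
  · intro hx
    exact mem_V_of_sq hYV hV hodd ((key x).2 (mem_sup_left hx)) ((hsq x).2 (hV _ hx))

/-- The number of pairs of involutions with product `v y` is `|V Y|`. -/
theorem inv_count_of [Finite G] {V Y : Subgroup G} (hYV : Y ≤ centralizer (V : Set G))
    (hV : ∀ v ∈ V, v * v = 1) (hodd : Odd (Nat.card Y))
    (cent_y : ∀ y ∈ Y, y ≠ 1 → centralizer ({y} : Set G) = V ⊔ Y) {s : G} (hs : s * s = 1)
    (hsV : ∀ v ∈ V, s * v = v * s) (hsY : ∀ y ∈ Y, s * y * s⁻¹ = y⁻¹) :
    ∀ v ∈ V, ∀ y ∈ Y, y ≠ 1 →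
      Nat.card {x : G × G // orderOf x.1 = 2 ∧ orderOf x.2 = 2 ∧ x.1 * x.2 = v * y} =
        Nat.card V * Nat.card Y := by
  intro v hv y hy hy1
  have hVY : ∀ v ∈ V, ∀ y ∈ Y, v * y = y * v := fun v hv y hy => mem_centralizer_iff.1 (hYV hy) v hv
  have hz1 : y * y ≠ 1 := fun h => hy1 (odd_eq_one hodd hy h)
  have hsinv : s⁻¹ = s := inv_eq_of_mul_eq_one_left hs
  -- `V Y` is commutative
  have hYc : ∀ a ∈ Y, ∀ b ∈ Y, a * b = b * a := by
    intro a ha b hb
    by_cases hb1 : b = 1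
    · rw [hb1]; simp
    · have : a ∈ centralizer ({b} : Set G) := by rw [cent_y b hb hb1]; exact mem_sup_right ha
      exact mem_centralizer_singleton_iff.1 this
  have hsconj : ∀ a ∈ V, ∀ b ∈ Y, s * (a * b) * s⁻¹ = a * b⁻¹ := by
    intro a ha b hb
    calc s * (a * b) * s⁻¹ = (s * a) * s⁻¹ * (s * b * s⁻¹) := by simp only [mul_assoc, inv_mul_cancel_left]
      _ = a * b⁻¹ := by rw [hsV a ha, mul_inv_cancel_right, hsY b hb]
  have hsnot : s ∉ V ⊔ Y := by
    intro h
    have h1 := cent_y y hy hy1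
    rw [← h1, mem_centralizer_singleton_iff] at h
    have h2 := hsY y hy
    rw [h, mul_inv_cancel_right] at h2
    apply hz1
    nth_rewrite 2 [h2]
    exact mul_inv_cancel y
  have ord2 : ∀ x : G, x * x = 1 → x ≠ 1 → orderOf x = 2 := by
    intro x h1 h2
    exact orderOf_eq_prime (by rw [pow_two]; exact h1) h2
  rw [← card_sup hYV hV hodd]
  refine Nat.card_congr (Equiv.ofBijective
    (fun p : {x : G × G // orderOf x.1 = 2 ∧ orderOf x.2 = 2 ∧ x.1 * x.2 = v * y} =>
      (⟨p.1.1 * s, ?_⟩ : (V ⊔ Y : Subgroup G))) ⟨?_, ?_⟩)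
  · obtain ⟨⟨u, u'⟩, h1, h2, h3⟩ := p
    simp only at h1 h2 h3
    simp only
    have e1 : u * u = 1 := by rw [← pow_two, ← h1]; exact pow_orderOf_eq_one u
    have e2 : u' * u' = 1 := by rw [← pow_two, ← h2]; exact pow_orderOf_eq_one u'
    have e3 : u⁻¹ = u := inv_eq_of_mul_eq_one_left e1
    have e4 : u'⁻¹ = u' := inv_eq_of_mul_eq_one_left e2
    have e5 : u * (v * y) * u⁻¹ = (v * y)⁻¹ := by
      rw [← h3, mul_inv_rev, e3, e4, ← mul_assoc u u u', e1, one_mul]
    have e6 : u * (y * y) * u⁻¹ = (y * y)⁻¹ := by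
      rw [← sq_eq hYV hV hv hy]
      calc u * (v * y * (v * y)) * u⁻¹ = (u * (v * y) * u⁻¹) * (u * (v * y) * u⁻¹) := by
            simp only [mul_assoc, inv_mul_cancel_left]
        _ = _ := by rw [e5, mul_inv_rev (v * y) (v * y)]
    have e7 := cent_y (y * y) (mul_mem hy hy) hz1
    rw [← e7, mem_centralizer_singleton_iff, ← mul_inv_eq_iff_eq_mul]
    calc u * s * (y * y) * (u * s)⁻¹ = u * (s * (y * y) * s⁻¹) * u⁻¹ := by simp only [mul_inv_rev, mul_assoc]
      _ = u * (y * y)⁻¹ * u⁻¹ := by rw [hsY (y * y) (mul_mem hy hy)]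
      _ = (u * (y * y) * u⁻¹)⁻¹ := by simp only [mul_inv_rev, inv_inv, mul_assoc]
      _ = y * y := by rw [e6, inv_inv]
  · rintro ⟨⟨u, u'⟩, h1, h2, h3⟩ ⟨⟨w, w'⟩, k1, k2, k3⟩ h
    have h4 : u * s = w * s := congrArg Subtype.val h
    have h5 : u = w := mul_right_cancel h4
    simp only at h3 k3
    have h6 : u' = w' := by
      rw [h5] at h3
      exact mul_left_cancel (h3.trans k3.symm)
    apply Subtype.ext
    exact Prod.ext h5 h6
  · rintro ⟨x, hx⟩
    obtain ⟨a, ha, b, hb, rfl⟩ := (mem_sup_iff hYV).1 hx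
    have e1 : (a * b * s) * (a * b * s) = 1 := by
      calc (a * b * s) * (a * b * s) = (a * b) * (s * (a * b) * s⁻¹) * (s * s) := by
            simp only [mul_assoc, inv_mul_cancel_left]
        _ = (a * b) * (a * b⁻¹) := by rw [hsconj a ha b hb, hs, mul_one]
        _ = a * (b * a) * b⁻¹ := by simp only [mul_assoc]
        _ = a * (a * b) * b⁻¹ := by rw [hVY a ha b hb]
        _ = (a * a) * (b * b⁻¹) := by simp only [mul_assoc]
        _ = 1 := by rw [hV a ha, mul_inv_cancel, one_mul]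
    have e2 : (a * b * s) * (v * y) * (a * b * s)⁻¹ = (v * y)⁻¹ := by
      calc (a * b * s) * (v * y) * (a * b * s)⁻¹ = (a * b) * (s * (v * y) * s⁻¹) * (a * b)⁻¹ := by
            simp only [mul_inv_rev, mul_assoc]
        _ = (a * b) * (v * y⁻¹) * (a * b)⁻¹ := by rw [hsconj v hv y hy]
        _ = (v * y⁻¹) * (a * b) * (a * b)⁻¹ := by
            congr 1
            have c1 : a * v = v * a := by
              have := hV _ (mul_mem ha hv)
              have h5 : (a * v)⁻¹ = a * v := inv_eq_of_mul_eq_one_left this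
              rw [mul_inv_rev, inv_eq_of_mul_eq_one_left (hV a ha), inv_eq_of_mul_eq_one_left (hV v hv)] at h5
              exact h5.symm
            calc a * b * (v * y⁻¹) = a * (b * v) * y⁻¹ := by simp only [mul_assoc]
              _ = a * (v * b) * y⁻¹ := by rw [hVY v hv b hb]
              _ = (a * v) * (b * y⁻¹) := by simp only [mul_assoc]
              _ = (v * a) * (y⁻¹ * b) := by rw [c1, hYc b hb y⁻¹ (inv_mem hy)]
              _ = v * (a * y⁻¹) * b := by simp only [mul_assoc]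
              _ = v * (y⁻¹ * a) * b := by rw [hVY a ha y⁻¹ (inv_mem hy)]
              _ = _ := by simp only [mul_assoc]
        _ = v * y⁻¹ := by rw [mul_inv_cancel_right]
        _ = (v * y)⁻¹ := by
            rw [mul_inv_rev, inv_eq_of_mul_eq_one_left (hV v hv), hVY v hv y⁻¹ (inv_mem hy)]
    have hnot : ∀ c ∈ V ⊔ Y, a * b * s * c ≠ 1 := by
      intro c hc h
      apply hsnot
      have : s = (a * b)⁻¹ * c⁻¹ := by
        rw [eq_mul_inv_iff_mul_eq, eq_comm, inv_eq_iff_mul_eq_one, ← mul_assoc]; exact h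
      rw [this]
      exact mul_mem (inv_mem hx) (inv_mem hc)
    have hvy : v * y ∈ V ⊔ Y := mul_mem (mem_sup_left hv) (mem_sup_right hy)
    have e3 : (a * b * s * (v * y)) * (a * b * s * (v * y)) = 1 := by
      have h5 : (a * b * s)⁻¹ = a * b * s := inv_eq_of_mul_eq_one_left e1
      calc (a * b * s * (v * y)) * (a * b * s * (v * y))
          = ((a * b * s) * (v * y) * (a * b * s)) * (v * y) := by simp only [mul_assoc]
        _ = ((a * b * s) * (v * y) * (a * b * s)⁻¹) * (v * y) := by rw [h5]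
        _ = 1 := by rw [e2, inv_mul_cancel]
    refine ⟨⟨(a * b * s, a * b * s * (v * y)), ord2 _ e1 ?_, ord2 _ e3 (hnot _ hvy), ?_⟩, ?_⟩
    · have := hnot 1 (one_mem _)
      rwa [mul_one] at this
    · show a * b * s * (a * b * s * (v * y)) = v * y
      rw [← mul_assoc, e1, one_mul]
    · apply Subtype.ext
      show a * b * s * s = a * b
      rw [mul_assoc, hs, mul_one]

end Cfsg.Agent.Ree.LocalFinal
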