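import Cfsg.Prelude.Def_Blocks
import Cfsg.Agent.Characters.Core
import Cfsg.Agent.Characters.Linear
import Cfsg.Agent.Blocks.Basic
import Cfsg.Agent.Blocks.Central
import Cfsg.Agent.Blocks.CentralizerSum
set_option linter.all false

/-!
# Characters and `2`-blocks of `⟨z⟩ × L` with `z` of order two
-/

set_option autoImplicit false

open Cfsg Cfsg.Agent.Characters.Core Cfsg.Agent.Blocks.Local
open Cfsg.Agent.Blocks.Basic (centralChar_def)
open scoped ComplexConjugate

namespace Cfsg.Agent.Ree.Split

/-- `K` is the direct product of the group of order two generated by `z` and of the image of `ι`. -/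
structure IsSplit {K L : Type*} [Group K] [Group L] (π : K →* L) (ι : L →* K) (z : K) : Prop where
  pi_iota : ∀ l, π (ι l) = l
  pi_z : π z = 1
  central : ∀ k, k * z = z * k
  sq : z * z = 1
  ne : z ≠ 1
  cover : ∀ k, k = ι (π k) ∨ k = z * ι (π k)

namespace IsSplit

variable {K L : Type*} [Group K] [Group L] {π : K →* L} {ι : L →* K} {z : K}

theorem surj (h : IsSplit π ι z) : Function.Surjective π := fun l => ⟨ι l, h.pi_iota l⟩

theorem inj (h : IsSplit π ι z) : Function.Injective ι :=
  Function.LeftInverse.injective (g := π) h.pi_iota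

theorem pi_z_mul (h : IsSplit π ι z) (k : K) : π (z * k) = π k := by
  rw [map_mul, h.pi_z, one_mul]

theorem not_both (h : IsSplit π ι z) (l l' : L) : ι l ≠ z * ι l' := by
  intro h1
  have h2 := congrArg π h1
  rw [h.pi_z_mul, h.pi_iota, h.pi_iota] at h2
  subst h2
  exact h.ne (mul_eq_right.1 h1.symm)

theorem bijective (h : IsSplit π ι z) :
    Function.Bijective (Sum.elim (fun l => ι l) (fun l => z * ι l) : L ⊕ L → K) := by
  constructor
  · rintro (l | l) (l' | l') hl
    · exact congrArg Sum.inl (h.inj hl)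
    · exact absurd hl (h.not_both l l')
    · exact absurd hl.symm (h.not_both l' l)
    · exact congrArg Sum.inr (h.inj (mul_left_cancel hl))
  · intro k
    rcases h.cover k with hk | hk
    · exact ⟨Sum.inl (π k), hk.symm⟩
    · exact ⟨Sum.inr (π k), hk.symm⟩

theorem sum_eq [Fintype K] [Fintype L] (h : IsSplit π ι z) (F : K → ℂ) :
    ∑ k, F k = ∑ l, F (ι l) + ∑ l, F (z * ι l) := by
  rw [← Equiv.sum_comp (Equiv.ofBijective _ h.bijective) F, Fintype.sum_sum_type]
  rfl

theorem card_eq [Finite K] [Finite L] (h : IsSplit π ι z) : Nat.card K = 2 * Nat.card L := by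
  rw [← Nat.card_congr (Equiv.ofBijective _ h.bijective), Nat.card_sum, two_mul]

open Classical in
/-- The sign character. -/
noncomputable def sgn (h : IsSplit π ι z) : K →* ℂˣ where
  toFun k := if k = ι (π k) then 1 else -1
  map_one' := by simp
  map_mul' a b := by
    have key : ∀ k, k = z * ι (π k) → ¬ k = ι (π k) := by
      intro k hk h1
      exact h.not_both (π k) (π k) (h1.symm.trans hk)
    rcases h.cover a with ha | ha <;> rcases h.cover b with hb | hb
    · have hab : a * b = ι (π (a * b)) := by rw [map_mul, map_mul, ← ha, ← hb]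
      rw [if_pos ha, if_pos hb, if_pos hab, one_mul]
    · have hab : a * b = z * ι (π (a * b)) := by
        rw [map_mul, map_mul, ← ha, ← mul_assoc, ← h.central a, mul_assoc, ← hb]
      rw [if_pos ha, if_neg (key b hb), if_neg (key _ hab), one_mul]
    · have hab : a * b = z * ι (π (a * b)) := by
        rw [map_mul, map_mul, ← hb, ← mul_assoc, ← ha]
      rw [if_neg (key a ha), if_pos hb, if_neg (key _ hab), mul_one]
    · have hab : a * b = ι (π (a * b)) := by
        rw [map_mul, map_mul]
        conv_lhs => rw [ha, hb]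
        rw [← mul_assoc, mul_assoc z, h.central, ← mul_assoc, h.sq, one_mul]
      rw [if_neg (key a ha), if_neg (key b hb), if_pos hab]
      simp

theorem sgn_iota (h : IsSplit π ι z) (l : L) : (h.sgn (ι l) : ℂ) = 1 := by
  simp [sgn, h.pi_iota]

theorem sgn_z (h : IsSplit π ι z) : (h.sgn z : ℂ) = -1 := by
  have : ¬ z = ι (π z) := by
    rw [h.pi_z, map_one]
    exact h.ne
  simp [sgn, this]

theorem sgn_z_iota (h : IsSplit π ι z) (l : L) : (h.sgn (z * ι l) : ℂ) = -1 := by
  rw [map_mul, Units.val_mul, h.sgn_iota, h.sgn_z, mul_one]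

theorem sgn_sq (h : IsSplit π ι z) (k : K) : (h.sgn k : ℂ) = 1 ∨ (h.sgn k : ℂ) = -1 := by
  rcases h.cover k with hk | hk
  · left; rw [hk]; exact h.sgn_iota _
  · right; rw [hk]; exact h.sgn_z_iota _

/-- The two extensions of a function on `L`. -/
noncomputable def ext (h : IsSplit π ι z) (b : Bool) (ρ : L → ℂ) : K → ℂ :=
  fun k => ρ (π k) * cond b (h.sgn k : ℂ) 1

theorem ext_iota (h : IsSplit π ι z) (b : Bool) (ρ : L → ℂ) (l : L) :
    h.ext b ρ (ι l) = ρ l := by
  cases b <;> simp [ext, h.pi_iota, h.sgn_iota]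

theorem ext_false_z_iota (h : IsSplit π ι z) (ρ : L → ℂ) (l : L) :
    h.ext false ρ (z * ι l) = ρ l := by
  simp [ext, h.pi_iota, h.pi_z]

theorem ext_true_z_iota (h : IsSplit π ι z) (ρ : L → ℂ) (l : L) :
    h.ext true ρ (z * ι l) = -ρ l := by
  have := h.sgn_z_iota l
  simp only [ext, h.pi_z_mul, h.pi_iota, cond_true, this, mul_neg, mul_one]

theorem isIrr_ext [Finite K] (h : IsSplit π ι z) (b : Bool) {ρ : L → ℂ}
    (hρ : IsIrrCharacter L ρ) : IsIrrCharacter K (h.ext b ρ) := by
  have h0 : IsIrrCharacter K (fun k => ρ (π k)) := isIrr_comp π h.surj hρ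
  cases b
  · have : h.ext false ρ = fun k => ρ (π k) := by
      funext k; simp [ext]
    rw [this]; exact h0
  · have := Fintype.ofFinite K
    have hc : IsCharacter K (h.ext true ρ) :=
      isCharacter_mul (isIrr_isCharacter h0) (Characters.Linear.isCharacter_hom h.sgn)
    rw [isIrr_iff_classInner_self hc, classInner_def,
      ← (isIrr_iff_classInner_self (isIrr_isCharacter h0)).1 h0, classInner_def]
    congr 1
    refine Finset.sum_congr rfl fun k _ => ?_
    rcases h.sgn_sq k with hk | hk <;> simp [ext, hk]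

/-- The irreducible characters of `K`. -/
noncomputable def extIrr [Finite K] (h : IsSplit π ι z) (b : Bool) (ρ : IrrCharacter L) :
    IrrCharacter K := ⟨h.ext b ρ, h.isIrr_ext b ρ.2⟩

theorem exists_ext [Finite K] [Finite L] (h : IsSplit π ι z) {ξ : K → ℂ}
    (hξ : IsIrrCharacter K ξ) : ∃ (b : Bool) (ρ : L → ℂ), IsIrrCharacter L ρ ∧ ξ = h.ext b ρ := by
  have := Fintype.ofFinite K
  have := Fintype.ofFinite L
  obtain ⟨c, -, hc⟩ := Blocks.CentralizerSum.exists_central_scalar hξ
    (Subgroup.mem_center_iff.2 h.central : z ∈ Subgroup.center K)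
  have h1 : ξ 1 ≠ 0 := isIrr_apply_one_ne_zero hξ
  have hc2 : c = 1 ∨ c = -1 := by
    have h2 : ξ 1 = c * (c * ξ 1) := by
      have h3 := hc (z * 1)
      rw [← mul_assoc, h.sq, one_mul, hc 1] at h3
      exact h3
    have h3 : c * c = 1 := by
      have : (c * c - 1) * ξ 1 = 0 := by linear_combination -h2
      rcases mul_eq_zero.1 this with h4 | h4
      · linear_combination h4
      · exact absurd h4 h1
    exact mul_self_eq_one_iff.1 h3
  have hρc : IsCharacter L (fun l => ξ (ι l)) := isCharacter_comp ι (isIrr_isCharacter hξ)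
  have hρ : IsIrrCharacter L (fun l => ξ (ι l)) := by
    rw [isIrr_iff_classInner_self hρc, classInner_def]
    have h2 := (isIrr_iff_classInner_self (isIrr_isCharacter hξ)).1 hξ
    rw [classInner_def, h.sum_eq, h.card_eq] at h2
    have h3 : ∀ l : L, ξ (z * ι l) * conj (ξ (z * ι l)) = ξ (ι l) * conj (ξ (ι l)) := by
      intro l
      rw [hc]
      rcases hc2 with h4 | h4 <;> simp [h4]
    rw [Finset.sum_congr rfl fun l _ => h3 l] at h2
    have hL : (Nat.card L : ℂ) ≠ 0 := card_ne_zero_complex
    push_cast at h2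
    field_simp at h2 ⊢
    linear_combination h2 / 2
  rcases hc2 with h4 | h4
  · refine ⟨false, _, hρ, ?_⟩
    funext k
    rcases h.cover k with hk | hk
    · rw [hk, h.ext_iota]
    · rw [hk, h.ext_false_z_iota, hc, h4, one_mul]
  · refine ⟨true, _, hρ, ?_⟩
    funext k
    rcases h.cover k with hk | hk
    · rw [hk, h.ext_iota]
    · rw [hk, h.ext_true_z_iota, hc, h4, neg_one_mul]

theorem extIrr_bijective [Finite K] [Finite L] (h : IsSplit π ι z) :
    Function.Bijective (Sum.elim (fun ρ => h.extIrr false ρ) (fun ρ => h.extIrr true ρ) :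
      IrrCharacter L ⊕ IrrCharacter L → IrrCharacter K) := by
  have hinj : ∀ (b b' : Bool) (ρ ρ' : IrrCharacter L), h.extIrr b ρ = h.extIrr b' ρ' → ρ = ρ' := by
    intro b b' ρ ρ' hb
    apply Subtype.ext
    funext l
    have h1 := congrFun (congrArg Subtype.val hb) (ι l)
    change h.ext b (ρ : L → ℂ) (ι l) = h.ext b' (ρ' : L → ℂ) (ι l) at h1
    rwa [h.ext_iota, h.ext_iota] at h1
  have hne : ∀ ρ ρ' : IrrCharacter L, h.extIrr false ρ ≠ h.extIrr true ρ' := by
    intro ρ ρ' hb
    have h0 := hinj _ _ _ _ hb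
    subst h0
    have h1 := congrFun (congrArg Subtype.val hb) (z * ι 1)
    change h.ext false (ρ : L → ℂ) (z * ι 1) = h.ext true (ρ : L → ℂ) (z * ι 1) at h1
    rw [h.ext_false_z_iota, h.ext_true_z_iota] at h1
    exact isIrr_apply_one_ne_zero ρ.2 (self_eq_neg.1 h1)
  constructor
  · rintro (ρ | ρ) (ρ' | ρ') hb
    · exact congrArg Sum.inl (hinj _ _ _ _ hb)
    · exact absurd hb (hne _ _)
    · exact absurd hb.symm (hne _ _)
    · exact congrArg Sum.inr (hinj _ _ _ _ hb)
  · intro ξ
    obtain ⟨b, ρ, hρ, hb⟩ := h.exists_ext ξ.2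
    cases b
    · exact ⟨Sum.inl ⟨ρ, hρ⟩, Subtype.ext hb.symm⟩
    · exact ⟨Sum.inr ⟨ρ, hρ⟩, Subtype.ext hb.symm⟩

theorem sum_irr [Finite K] [Finite L] [Fintype (IrrCharacter K)] [Fintype (IrrCharacter L)]
    (h : IsSplit π ι z) (F : IrrCharacter K → ℂ) :
    ∑ ξ, F ξ = ∑ ρ, F (h.extIrr false ρ) + ∑ ρ, F (h.extIrr true ρ) := by
  rw [← Equiv.sum_comp (Equiv.ofBijective _ h.extIrr_bijective) F, Fintype.sum_sum_type]
  rfl

theorem classInner_ext_add [Fintype K] [Fintype L] (h : IsSplit π ι z) (g : K → ℂ) (ρ : L → ℂ) :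
    classInner g (h.ext false ρ) + classInner g (h.ext true ρ) =
      classInner (fun l => g (ι l)) ρ := by
  have hL : (Nat.card L : ℂ) ≠ 0 := card_ne_zero_complex
  rw [classInner_def, classInner_def, classInner_def, h.sum_eq, h.sum_eq, h.card_eq]
  simp only [h.ext_iota, h.ext_false_z_iota, h.ext_true_z_iota, map_neg, mul_neg,
    Finset.sum_neg_distrib]
  push_cast
  field_simp
  ring

theorem classInner_ext_sub [Fintype K] [Fintype L] (h : IsSplit π ι z) (g : K → ℂ) (ρ : L → ℂ) :
    classInner g (h.ext false ρ) - classInner g (h.ext true ρ) =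
      classInner (fun l => g (z * ι l)) ρ := by
  have hL : (Nat.card L : ℂ) ≠ 0 := card_ne_zero_complex
  rw [classInner_def, classInner_def, classInner_def, h.sum_eq, h.sum_eq, h.card_eq]
  simp only [h.ext_iota, h.ext_false_z_iota, h.ext_true_z_iota, map_neg, mul_neg,
    Finset.sum_neg_distrib]
  push_cast
  field_simp
  ring

theorem commute_iff (h : IsSplit π ι z) (x k : K) :
    x * k = k * x ↔ π x * π k = π k * π x := by
  constructor
  · intro hx; rw [← map_mul, hx, map_mul]
  · intro hx
    have h1 : Commute (ι (π x)) (ι (π k)) := by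
      change _ * _ = _ * _
      rw [← map_mul, hx, map_mul]
    have hz : ∀ y : K, Commute z y := fun y => (h.central y).symm
    have h2 : Commute x k := by
      rcases h.cover x with hx | hx <;> rcases h.cover k with hk | hk <;> rw [hx, hk]
      · exact h1
      · exact (hz _).symm.mul_right h1
      · exact (hz _).mul_left h1
      · exact ((hz _).symm.mul_right ((hz _).mul_left h1))
    exact h2

theorem index_centralizer (h : IsSplit π ι z) (k : K) :
    (Subgroup.centralizer ({k} : Set K)).index =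
      (Subgroup.centralizer ({π k} : Set L)).index := by
  rw [← Subgroup.index_comap_of_surjective _ h.surj]
  congr 1
  ext x
  rw [Subgroup.mem_comap, Subgroup.mem_centralizer_singleton_iff,
    Subgroup.mem_centralizer_singleton_iff]
  exact h.commute_iff x k

theorem centralChar_ext (h : IsSplit π ι z) (b : Bool) (ρ : L → ℂ) (k : K) :
    centralChar (h.ext b ρ) k = cond b (h.sgn k : ℂ) 1 * centralChar ρ (π k) := by
  rw [centralChar_def, centralChar_def, h.index_centralizer]
  have h1 : h.ext b ρ 1 = ρ 1 := by rw [← map_one ι, h.ext_iota]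
  rw [h1, ext]
  ring

theorem sameBlock_ext [Finite K] [Finite L] {M : Ideal AlgInt} (hM : IsPModular 2 M)
    (h : IsSplit π ι z) (b : Bool) {ρ : L → ℂ} (hρ : IsIrrCharacter L ρ) :
    SameBlock M (fun _ : K => (1 : ℂ)) (h.ext b ρ) ↔ SameBlock M (fun _ : L => (1 : ℂ)) ρ := by
  have := isPrime_of_isPModular hM
  have h1 : ∀ k : K, centralChar (fun _ : K => (1 : ℂ)) k =
      centralChar (fun _ : L => (1 : ℂ)) (π k) := by
    intro k
    rw [centralChar_def, centralChar_def, h.index_centralizer]
  constructor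
  · intro h2 l
    have h3 := h2 (ι l)
    rw [h1, h.centralChar_ext, h.pi_iota] at h3
    have h4 : cond b (h.sgn (ι l) : ℂ) 1 = 1 := by
      cases b
      · rfl
      · exact h.sgn_iota l
    rwa [h4, one_mul] at h3
  · intro h2 k
    have h3 := h2 (π k)
    rw [h1, h.centralChar_ext]
    have h4 : cond b (h.sgn k : ℂ) 1 = 1 ∨ cond b (h.sgn k : ℂ) 1 = -1 := by
      cases b
      · exact Or.inl rfl
      · exact h.sgn_sq k
    rcases h4 with h4 | h4
    · rwa [h4, one_mul]
    · rw [h4]
      have h5 : MemLocalIdeal M ((2 : ℕ) * centralChar ρ (π k)) :=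
        memLocalIdeal_mul_right (memLocalIdeal_p hM)
          (memLocalRing_of_isIntegral (Blocks.Central.isIntegral_centralChar hρ (π k)))
      have h6 := memLocalIdeal_add h3 h5
      have h7 : centralChar (fun _ : L => (1 : ℂ)) (π k) - -1 * centralChar ρ (π k) =
          centralChar (fun _ : L => (1 : ℂ)) (π k) - centralChar ρ (π k) +
            (2 : ℕ) * centralChar ρ (π k) := by
        push_cast
        ring
      rwa [h7]

theorem extIrr_mem_principalBlock [Finite K] [Finite L] {M : Ideal AlgInt} (hM : IsPModular 2 M)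
    (h : IsSplit π ι z) (b : Bool) (ρ : IrrCharacter L) :
    h.extIrr b ρ ∈ principalBlock M K ↔ ρ ∈ principalBlock M L :=
  h.sameBlock_ext hM b ρ.2

open Classical in
/-- Component in the principal block. -/
theorem sum_principalBlock [Fintype K] [Fintype L] [Fintype (IrrCharacter K)]
    [Fintype (IrrCharacter L)] {M : Ideal AlgInt} (hM : IsPModular 2 M)
    (h : IsSplit π ι z) (g : K → ℂ) (l : L) :
    ∑ ξ with ξ ∈ principalBlock M K, classInner g (ξ : K → ℂ) * (ξ : K → ℂ) (ι l) =
      ∑ ρ with ρ ∈ principalBlock M L, classInner (fun l => g (ι l)) (ρ : L → ℂ) *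
        (ρ : L → ℂ) l := by
  rw [Finset.sum_filter, h.sum_irr, ← Finset.sum_add_distrib, Finset.sum_filter]
  refine Finset.sum_congr rfl fun ρ _ => ?_
  simp only [h.extIrr_mem_principalBlock hM]
  split_ifs with h1
  · rw [← h.classInner_ext_add g (ρ : L → ℂ)]
    change classInner g (h.ext false ρ) * h.ext false ρ (ι l) +
      classInner g (h.ext true ρ) * h.ext true ρ (ι l) = _
    rw [h.ext_iota, h.ext_iota]
    ring
  · rw [add_zero]

/-- Column sums of `K` in terms of those of `L`. -/
theorem sum_irr_mul_conj [Fintype K] [Fintype L] [Fintype (IrrCharacter K)]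
    [Fintype (IrrCharacter L)] (h : IsSplit π ι z) (l l' : L) :
    ∑ ξ : IrrCharacter K, (ξ : K → ℂ) (z * ι l) * conj ((ξ : K → ℂ) (z * ι l')) =
      2 * ∑ ρ : IrrCharacter L, (ρ : L → ℂ) l * conj ((ρ : L → ℂ) l') := by
  rw [h.sum_irr, ← Finset.sum_add_distrib, Finset.mul_sum]
  refine Finset.sum_congr rfl fun ρ _ => ?_
  change h.ext false ρ (z * ι l) * conj (h.ext false ρ (z * ι l')) +
      h.ext true ρ (z * ι l) * conj (h.ext true ρ (z * ι l')) = _
  rw [h.ext_false_z_iota, h.ext_false_z_iota, h.ext_true_z_iota, h.ext_true_z_iota, map_neg]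
  ring

end IsSplit

/-- The decomposition of the centralizer `H` of an involution `t` such that `H = L ∪ t L`. -/
theorem exists_split {G : Type*} [Group G] {t : G} (ht : orderOf t = 2) {L H : Subgroup G}
    (hH : H = Subgroup.centralizer ({t} : Set G)) (hL : L ≤ Subgroup.centralizer ({t} : Set G))
    (htL : t ∉ L) (hcov : ∀ g ∈ Subgroup.centralizer ({t} : Set G), g ∈ L ∨ t * g ∈ L) :
    ∃ (π : H →* L) (ι : L →* H) (z : H), IsSplit π ι z ∧ (z : G) = t ∧
      (∀ l, ((ι l : H) : G) = l) := by
  classical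
  subst hH
  have ht2 : t * t = 1 := by
    have := pow_orderOf_eq_one t
    rwa [ht, pow_two] at this
  have htc : ∀ x ∈ Subgroup.centralizer ({t} : Set G), t * x = x * t := fun x hx =>
    (Subgroup.mem_centralizer_singleton_iff.1 hx).symm
  have hn : ∀ x, x ∈ L → t * x ∉ L := by
    intro x hx h
    apply htL
    have := mul_mem h (inv_mem hx)
    rwa [mul_inv_cancel_right] at this
  let f : Subgroup.centralizer ({t} : Set G) → L := fun x =>
    if hx : (x : G) ∈ L then ⟨x, hx⟩ else ⟨t * x, (hcov x x.2).resolve_left hx⟩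
  have hf1 : ∀ x : Subgroup.centralizer ({t} : Set G), (x : G) ∈ L → ((f x : L) : G) = x := by
    intro x hx
    simp only [f, dif_pos hx]
  have hf2 : ∀ x : Subgroup.centralizer ({t} : Set G), t * (x : G) ∈ L →
      ((f x : L) : G) = t * x := by
    intro x hx
    have h1 : (x : G) ∉ L := fun h => hn x h hx
    simp only [f, dif_neg h1]
  let π : Subgroup.centralizer ({t} : Set G) →* L :=
    { toFun := f
      map_one' := Subtype.ext (hf1 1 (one_mem _))
      map_mul' := by
        intro a b
        apply Subtype.ext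
        rw [Subgroup.coe_mul]
        rcases hcov a a.2 with ha | ha <;> rcases hcov b b.2 with hb | hb
        · rw [hf1 a ha, hf1 b hb, hf1 (a * b) (mul_mem ha hb), Subgroup.coe_mul]
        · have h1 : t * ((a : G) * b) = a * (t * b) := by
            rw [← mul_assoc, htc a a.2, mul_assoc]
          have h2 : t * ((a * b : Subgroup.centralizer ({t} : Set G)) : G) ∈ L := by
            rw [Subgroup.coe_mul, h1]
            exact mul_mem ha hb
          rw [hf1 a ha, hf2 b hb, hf2 (a * b) h2, Subgroup.coe_mul, h1]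
        · have h1 : t * ((a : G) * b) = (t * a) * b := (mul_assoc _ _ _).symm
          have h2 : t * ((a * b : Subgroup.centralizer ({t} : Set G)) : G) ∈ L := by
            rw [Subgroup.coe_mul, h1]
            exact mul_mem ha hb
          rw [hf2 a ha, hf1 b hb, hf2 (a * b) h2, Subgroup.coe_mul, h1]
        · have h1 : (a : G) * b = (t * a) * (t * b) := by
            rw [htc a a.2, mul_assoc, ← mul_assoc t t, ht2, one_mul]
          have h2 : ((a * b : Subgroup.centralizer ({t} : Set G)) : G) ∈ L := by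
            rw [Subgroup.coe_mul, h1]
            exact mul_mem ha hb
          rw [hf2 a ha, hf2 b hb, hf1 (a * b) h2, Subgroup.coe_mul, h1] }
  have hz : t ∈ Subgroup.centralizer ({t} : Set G) := Subgroup.mem_centralizer_singleton_iff.2 rfl
  refine ⟨π, Subgroup.inclusion hL, ⟨t, hz⟩, ⟨?_, ?_, ?_, ?_, ?_, ?_⟩, rfl, fun l => rfl⟩
  · intro l
    exact Subtype.ext (hf1 _ l.2)
  · apply Subtype.ext
    have h1 : t * ((⟨t, hz⟩ : Subgroup.centralizer ({t} : Set G)) : G) ∈ L := by
      change t * t ∈ L
      rw [ht2]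
      exact one_mem _
    exact (hf2 ⟨t, hz⟩ h1).trans ht2
  · intro k
    exact Subtype.ext (Subgroup.mem_centralizer_singleton_iff.1 k.2)
  · exact Subtype.ext ht2
  · intro h
    have h1 : t = 1 := congrArg Subtype.val h
    rw [h1, orderOf_one] at ht
    omega
  · intro k
    rcases hcov k k.2 with hk | hk
    · left
      exact Subtype.ext (hf1 k hk).symm
    · right
      apply Subtype.ext
      change (k : G) = t * ((f k : L) : G)
      rw [hf2 k hk, ← mul_assoc, ht2, one_mul]

end Cfsg.Agent.Ree.Split
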